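import Cfsg.Agent.CA.TICent.Count
import Cfsg.Agent.Exceptional.Coherent
import Cfsg.Agent.Exceptional.FrobTI
import Cfsg.Agent.Exceptional.FrobChar
import Cfsg.Agent.Exceptional.LinearFamily
import Cfsg.Agent.GaloisDegree.Basic
import Cfsg.Agent.CharBasics.LinearOver
import Cfsg.Agent.S0859

/-!
# The characters of the normaliser and the exceptional family
-/

set_option autoImplicit false
set_option linter.style.haveILetI false
set_option linter.unusedSectionVars false

namespace CfsgLib.TICent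

open Cfsg CfsgLib.CharBasics CfsgLib.Exceptional
open scoped ComplexConjugate commutatorElement

universe u

variable {G : Type u} [Group G] [Fintype G]

/-- `A` inside its normaliser. -/
abbrev KA (A : Subgroup G) : Subgroup (NA A) := A.subgroupOf (NA A)

noncomputable instance fintypeNA (A : Subgroup G) : Fintype (NA A) := Fintype.ofFinite _
noncomputable instance fintypeKA (A : Subgroup G) : Fintype (KA A) := Fintype.ofFinite _
noncomputable instance fintypeIrrNA (A : Subgroup G) : Fintype (IrrCharacter (NA A)) := Fintype.ofFinite _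

/-- An element of `A` in the normaliser. -/
abbrev inN {A : Subgroup G} (a : A) : NA A := ⟨a, Subgroup.le_normalizer a.2⟩

/-- `A` in two guises. -/
noncomputable abbrev eA (A : Subgroup G) : KA A ≃* A := Subgroup.subgroupOfEquivOfLe Subgroup.le_normalizer

/-- Induction of a function on `A` to the normaliser. -/
noncomputable def indA {A : Subgroup G} (f : A → ℂ) : NA A → ℂ := indFun (KA A) (fun k => f (eA A k))

/-- The characters of degree `[M : A]`. -/
abbrev Lin (A : Subgroup G) : Type u :=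
  {χ : IrrCharacter (NA A) // (χ : NA A → ℂ) 1 = ((mm A : ℕ) : ℂ)}

noncomputable instance fintypeLin (A : Subgroup G) : Fintype (Lin A) := Fintype.ofFinite _

theorem degree_sq_le {Q : Type u} [Group Q] [Finite Q] {χ : Q → ℂ} (hχ : IsIrrCharacter Q χ) :
    charDegree χ ^ 2 ≤ (Subgroup.center Q).index ∧
      (charDegree χ ^ 2 = (Subgroup.center Q).index → ∀ g, g ∉ Subgroup.center Q → χ g = 0) := by
  classical
  haveI := Fintype.ofFinite Q
  have h1 : ∑ g : Q, ‖χ g‖ ^ 2 = (Nat.card Q : ℝ) := sum_normSq_irr (⟨χ, hχ⟩ : IrrCharacter Q)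
  rw [← Finset.sum_filter_add_sum_filter_not Finset.univ (fun g => g ∈ Subgroup.center Q)] at h1
  have h2 : ∀ g ∈ Finset.univ.filter (fun g => g ∈ Subgroup.center Q), ‖χ g‖ ^ 2 = (charDegree χ : ℝ) ^ 2 := by
    intro g hg
    have h := CfsgLib.GaloisDegree.center_normSq hχ (Finset.mem_filter.1 hg).2
    rw [Complex.mul_conj', apply_one (isCharacter_of_irr hχ)] at h
    rw [sq (charDegree χ : ℝ)]
    exact_mod_cast h
  rw [Finset.sum_congr rfl h2, Finset.sum_const, nsmul_eq_mul, ← Fintype.card_subtype,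
    ← Nat.card_eq_fintype_card, ← Subgroup.card_mul_index (Subgroup.center Q), Nat.cast_mul] at h1
  change (Nat.card (Subgroup.center Q) : ℝ) * _ + _ = _ at h1
  have h3 : 0 ≤ ∑ g ∈ Finset.univ.filter (fun g => ¬ g ∈ Subgroup.center Q), ‖χ g‖ ^ 2 :=
    Finset.sum_nonneg fun g _ => by positivity
  have hc : (0 : ℝ) < Nat.card (Subgroup.center Q) := Nat.cast_pos.2 Nat.card_pos
  refine ⟨?_, fun he g hg => ?_⟩
  · have h4 : (charDegree χ : ℝ) ^ 2 ≤ ((Subgroup.center Q).index : ℝ) :=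
      le_of_mul_le_mul_left (by linarith) hc
    exact_mod_cast h4
  · have h4 : ∑ g ∈ Finset.univ.filter (fun g => ¬ g ∈ Subgroup.center Q), ‖χ g‖ ^ 2 = 0 := by
      have : (charDegree χ : ℝ) ^ 2 = ((Subgroup.center Q).index : ℝ) := by exact_mod_cast he
      rw [this] at h1
      linarith
    have h5 := (Finset.sum_eq_zero_iff_of_nonneg fun g _ => by positivity).1 h4 g
      (Finset.mem_filter.2 ⟨Finset.mem_univ g, hg⟩)
    simpa using h5

/-- Parseval with a distinguished family of characters. -/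
theorem parseval_family {ι : Type u} [Fintype ι] {f : G → ℂ} (hf : IsClassFunction G f)
    (F : ι → IrrCharacter G) (hF : Function.Injective F) :
    ∑ i, ‖classInner f (F i : G → ℂ)‖ ^ 2 ≤ (classInner f f).re ∧
      ((classInner f f).re ≤ ∑ i, ‖classInner f (F i : G → ℂ)‖ ^ 2 →
        f = ∑ i, classInner f (F i : G → ℂ) • (F i : G → ℂ)) := by
  classical
  haveI := Fintype.ofFinite (IrrCharacter G)
  have h1 : classInner f f = ∑ χ : IrrCharacter G, ((‖classInner f (χ : G → ℂ)‖ ^ 2 : ℝ) : ℂ) := by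
    conv_lhs => enter [1]; rw [classFun_expand hf]
    rw [classInner_sum_left]
    refine Finset.sum_congr rfl fun χ _ => ?_
    rw [classInner_smul_left, classInner_comm f (χ : G → ℂ)]
    rw [Complex.mul_conj']
    push_cast; rfl
  have h2 : (classInner f f).re = ∑ χ : IrrCharacter G, ‖classInner f (χ : G → ℂ)‖ ^ 2 := by
    rw [h1, ← Complex.ofReal_sum, Complex.ofReal_re]
  have h3 : ∑ i, ‖classInner f (F i : G → ℂ)‖ ^ 2 =
      ∑ χ ∈ Finset.univ.image F, ‖classInner f (χ : G → ℂ)‖ ^ 2 :=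
    (Finset.sum_image (g := F) (f := fun χ : IrrCharacter G => ‖classInner f (χ : G → ℂ)‖ ^ 2) (s := Finset.univ)
      fun a _ b _ h => hF h).symm
  rw [h2, h3, ← Finset.sum_add_sum_compl (Finset.univ.image F) (fun χ => ‖classInner f (χ : G → ℂ)‖ ^ 2)]
  have h4 : 0 ≤ ∑ χ ∈ (Finset.univ.image F)ᶜ, ‖classInner f (χ : G → ℂ)‖ ^ 2 :=
    Finset.sum_nonneg fun χ _ => by positivity
  refine ⟨by linarith, fun hle => ?_⟩
  have h5 := (Finset.sum_eq_zero_iff_of_nonneg fun χ _ => by positivity).1 (le_antisymm (by linarith) h4)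
  conv_lhs => rw [classFun_expand hf, ← Finset.sum_add_sum_compl (Finset.univ.image F)]
  rw [Finset.sum_image fun a _ b _ h => hF h, Finset.sum_eq_zero (s := (Finset.univ.image F)ᶜ) fun χ hχ => ?_,
    add_zero]
  have : classInner f (χ : G → ℂ) = 0 := by simpa using h5 χ hχ
  rw [this, zero_smul]

/-- The sum of the linear characters at an element. -/
theorem sum_homs {Q : Type u} [Group Q] [Finite Q] [Fintype (Q →* ℂˣ)] (a : Q) [Decidable (a ∈ commutator Q)] :
    ∑ l : Q →* ℂˣ, (l a : ℂ) = if a ∈ commutator Q then (Nat.card (Abelianization Q) : ℂ) else 0 := by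
  split_ifs with ha
  · rw [Finset.sum_congr rfl (g := fun _ => (1 : ℂ)) fun l _ => by
      rw [MonoidHom.mem_ker.1 (Abelianization.commutator_subset_ker l ha), Units.val_one]]
    rw [Finset.sum_const, Finset.card_univ, nsmul_eq_mul, mul_one, ← Nat.card_eq_fintype_card,
      CfsgLib.Exceptional.card_hom_units]
  · obtain ⟨f, hf⟩ := CommGroup.exists_apply_ne_one_of_hasEnoughRootsOfUnity (Abelianization Q) ℂ
      (a := Abelianization.of a) (fun e => ha ((QuotientGroup.eq_one_iff a).1 e))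
    obtain ⟨l₀, hl₀⟩ : ∃ l₀ : Q →* ℂˣ, l₀ a ≠ 1 := ⟨f.comp Abelianization.of, hf⟩
    have h1 : (l₀ a : ℂ) * ∑ l : Q →* ℂˣ, (l a : ℂ) = ∑ l : Q →* ℂˣ, (l a : ℂ) := by
      rw [Finset.mul_sum]
      exact Fintype.sum_equiv (Equiv.mulLeft l₀) _ _ fun l => by simp
    have hne : (l₀ a : ℂ) - 1 ≠ 0 := sub_ne_zero.2 fun e => hl₀ (Units.ext e)
    exact (mul_eq_zero.1 (by linear_combination h1 :
      ((l₀ a : ℂ) - 1) * ∑ l : Q →* ℂˣ, (l a : ℂ) = 0)).resolve_left hne

namespace Hyp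

variable {A : Subgroup G} {z : G} (h : Hyp A z)
include h

theorem cent_KA : ∀ n ∈ KA A, n ≠ 1 → Subgroup.centralizer ({n} : Set (NA A)) ≤ KA A :=
  centralizer_le_in_normalizer A h.cent

theorem mm_cast_ne : ((mm A : ℕ) : ℂ) ≠ 0 := Nat.cast_ne_zero.2 h.mm_pos.ne'

theorem KA_ne_bot : KA A ≠ ⊥ := fun e => h.z_ne_one (by
  have hz : (⟨z, Subgroup.le_normalizer h.hzA⟩ : NA A) ∈ KA A := Subgroup.mem_subgroupOf.2 h.hzA
  rw [e, Subgroup.mem_bot] at hz
  exact congrArg Subtype.val hz)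

theorem card_KA : Nat.card (KA A) = Nat.card A := Nat.card_congr (eA A).toEquiv

/-- Characters trivial on `A` are linear. -/
theorem nonrel_one {χ : NA A → ℂ} (hχ : IsIrrCharacter (NA A) χ) (hr : ¬ Rel (KA A) χ) : χ 1 = 1 :=
  Cfsg.Agent.S0859.degree_one_of_ker_comm hχ fun a b => not_rel hr
    (Subgroup.mem_subgroupOf.2 (h.commutator_mem a.2 b.2))

theorem rel_iff {χ : NA A → ℂ} (hχ : IsIrrCharacter (NA A) χ) : Rel (KA A) χ ↔ χ 1 ≠ 1 := by
  refine ⟨fun hr e => ?_, fun hne => not_not.1 fun hr => hne (h.nonrel_one hχ hr)⟩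
  obtain ⟨-, p, hp, -, hp1, -⟩ := rel_induced (KA A) h.cent_KA hχ hr
  rw [hp1, Nat.cast_eq_one] at e
  have := Nat.eq_one_of_mul_eq_one_right e
  exact h.one_lt_mm.ne' this

theorem lin_rel (χ : Lin A) : Rel (KA A) (χ.1 : NA A → ℂ) :=
  (h.rel_iff χ.1.2).2 (by
    rw [χ.2]
    exact fun e => h.one_lt_mm.ne' (Nat.cast_eq_one.1 e))

theorem indA_apply (f : A → ℂ) (a : A) :
    indA f (inN a) = (Nat.card A : ℂ)⁻¹ * ∑ x : NA A, f (h.act x a) := by
  rw [indA, indFun, h.card_KA]
  congr 1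
  refine Fintype.sum_equiv (Equiv.inv _) _ _ fun x => ?_
  have hm : x⁻¹ * inN a * x ∈ KA A := Subgroup.mem_subgroupOf.2 (by
    simpa using h.conj_mem ((NA A).inv_mem x.2) a.2)
  rw [extendByZero_coe (KA A) _ ⟨_, hm⟩]
  exact congrArg f (Subtype.ext (by
    show (x : G)⁻¹ * a * x = ((x⁻¹ : NA A) : G) * a * ((x⁻¹ : NA A) : G)⁻¹
    simp))

theorem indA_apply_one (f : A → ℂ) : indA f (1 : NA A) = (mm A : ℂ) * f 1 := by
  rw [indA, indFun_apply_one, map_one]

theorem indA_irr (l : A →* ℂˣ) (hl : l ≠ 1) : IsIrrCharacter (NA A) (indA fun a => (l a : ℂ)) :=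
  induced_linear_irr (KA A) h.cent_KA (l.comp (eA A).toMonoidHom) fun e => hl (MonoidHom.ext fun a => by
    obtain ⟨k, rfl⟩ := (eA A).surjective a
    exact DFunLike.congr_fun e k)

/-- The degree `m` character of a linear character of `A`. -/
noncomputable def linOf (l : A →* ℂˣ) (hl : l ≠ 1) : Lin A :=
  ⟨⟨indA fun a => (l a : ℂ), h.indA_irr l hl⟩, by
    show indA (fun a => (l a : ℂ)) 1 = _
    rw [h.indA_apply_one, map_one, Units.val_one, mul_one]⟩

theorem linOf_apply (l : A →* ℂˣ) (hl : l ≠ 1) (a : A) :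
    ((h.linOf l hl).1 : NA A → ℂ) (inN a) = (Nat.card A : ℂ)⁻¹ * ∑ x : NA A, (l (h.act x a) : ℂ) :=
  h.indA_apply (fun a => (l a : ℂ)) a

theorem linOf_const (l : A →* ℂˣ) (hl : l ≠ 1) {X : Subgroup A} (hX : h.Inv X) (hlX : ∀ a ∈ X, l a = 1)
    {a : A} (ha : a ∈ X) : ((h.linOf l hl).1 : NA A → ℂ) (inN a) = (mm A : ℂ) := by
  rw [h.linOf_apply, Finset.sum_congr rfl (g := fun _ => (1 : ℂ)) fun x _ => by rw [hlX _ (hX x a ha), Units.val_one],
    Finset.sum_const, Finset.card_univ, nsmul_eq_mul, mul_one, ← Nat.card_eq_fintype_card, h.card_NA, Nat.cast_mul,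
    inv_mul_cancel_left₀ (Nat.cast_ne_zero.2 Nat.card_pos.ne')]

theorem exists_linOf (χ : Lin A) : ∃ l hl, h.linOf l hl = χ := by
  classical
  obtain ⟨φ, hφ, hind⟩ := Cfsg.Agent.S1528.result (KA A) h.cent_KA (χ.1 : NA A → ℂ) χ.1.2 (h.lin_rel χ)
  have h1 := χ.2
  rw [hind, indFun_apply_one] at h1
  have hd : charDegree φ = 1 := by
    have h2 : φ 1 = 1 := mul_left_cancel₀ h.mm_cast_ne (h1.trans (mul_one _).symm)
    rw [charDegree, h2, Complex.one_re, Nat.floor_one]
  let l₀ : KA A →* ℂˣ := (linHomOf ⟨φ, hφ⟩ hd).toHomUnits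
  refine ⟨l₀.comp (eA A).symm.toMonoidHom, fun e => ?_, Subtype.ext (Subtype.ext ?_)⟩
  · obtain ⟨k, hk, hne⟩ := h.lin_rel χ
    apply hne
    have hφ1 : ∀ j, φ j = 1 := fun j => by
      have := DFunLike.congr_fun e (eA A j)
      have h3 : (l₀ j : ℂ) = 1 := by
        rw [MonoidHom.comp_apply, MulEquiv.coe_toMonoidHom, MulEquiv.symm_apply_apply] at this
        rw [this]; rfl
      exact h3
    rw [hind, Subgroup.mem_subgroupOf] at *
    have hk' : (k : NA A) ∈ KA A := Subgroup.mem_subgroupOf.2 hk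
    simp only [indFun]
    congr 1
    refine Finset.sum_congr rfl fun x _ => ?_
    rw [extendByZero_coe (KA A) φ ⟨_, Subgroup.Normal.conj_mem' inferInstance k hk' x⟩,
      mul_one, inv_mul_cancel]
    rw [hφ1, show extendByZero (KA A) φ 1 = φ 1 from extendByZero_coe (KA A) φ 1, hφ1]
  · show indA (A := A) (fun a => ((l₀.comp (eA A).symm.toMonoidHom a : ℂˣ) : ℂ)) = _
    rw [indA, hind]
    simp only [MonoidHom.comp_apply, MulEquiv.coe_toMonoidHom, MulEquiv.symm_apply_apply]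
    rfl

theorem lin_commutator (χ : Lin A) {a : A} (ha : a ∈ commutator A) :
    (χ.1 : NA A → ℂ) (inN a) = (mm A : ℂ) := by
  obtain ⟨l, hl, rfl⟩ := h.exists_linOf χ
  exact h.linOf_const l hl h.inv_commutator (fun b hb => Abelianization.commutator_subset_ker l hb) ha

theorem sum_A_rel {χ : NA A → ℂ} (hχ : IsIrrCharacter (NA A) χ) (hr : Rel (KA A) χ) [Fintype A] :
    ∑ a : A, χ (inN a) = 0 := by
  rw [← rel_sum_eq_zero (K := KA A) h.cent_KA hχ hr]
  exact Fintype.sum_equiv (eA A).symm.toEquiv _ _ fun a => rfl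

/-- `n m + 1 = [A : A']`. -/
theorem card_lin : Nat.card (Lin A) * mm A + 1 = Nat.card (Abelianization A) := by
  classical
  haveI := Fintype.ofFinite A
  haveI : Finite (A →* ℂˣ) := Nat.finite_of_card_ne_zero (by
    rw [CfsgLib.Exceptional.card_hom_units]; exact Nat.card_pos.ne')
  haveI := Fintype.ofFinite (A →* ℂˣ)
  let f : {l : A →* ℂˣ // l ≠ 1} → Lin A := fun l => h.linOf l.1 l.2
  have hfib : ∀ χ : Lin A, Nat.card {l : {l : A →* ℂˣ // l ≠ 1} // f l = χ} = mm A := by
    intro χ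
    have hχc := isClassFunction (isCharacter_of_irr χ.1.2)
    have h1 : ∀ l : A →* ℂˣ, (Nat.card A : ℂ)⁻¹ * ∑ a : A, (l a : ℂ) * conj ((χ.1 : NA A → ℂ) (inN a)) =
        if hl : l ≠ 1 then (if h.linOf l hl = χ then 1 else 0) else 0 := by
      intro l
      by_cases hl : l = 1
      · subst hl
        rw [dif_neg (fun hne => hne rfl)]
        simp only [MonoidHom.one_apply, Units.val_one, one_mul, ← map_sum, h.sum_A_rel χ.1.2 (h.lin_rel χ),
          map_zero, mul_zero]
      · rw [dif_pos hl]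
        have hi := classInner_irr ((h.linOf l hl).1) χ.1
        simp only [Subtype.ext_iff (a1 := h.linOf l hl) (a2 := χ)]
        rw [← hi]
        show _ = classInner (indA fun a => (l a : ℂ)) _
        rw [indA, classInner_indFun (KA A) _ hχc, classInner_eq, h.card_KA]
        congr 1
        exact Fintype.sum_equiv (eA A).symm.toEquiv _ _ fun a => by
          show _ = (l (eA A ((eA A).symm a)) : ℂ) * _
          rw [MulEquiv.apply_symm_apply]
          rfl
    have h2 := Finset.sum_congr (s₁ := (Finset.univ : Finset (A →* ℂˣ))) rfl fun l _ => h1 l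
    rw [← Finset.mul_sum, Finset.sum_comm] at h2
    simp only [← Finset.sum_mul, sum_homs] at h2
    rw [Finset.sum_congr rfl (g := fun a => if a ∈ commutator A then
        (Nat.card (Abelianization A) : ℂ) * (mm A : ℂ) else 0) (fun a _ => by
      split_ifs with ha
      · rw [h.lin_commutator χ ha, map_natCast]
      · rw [zero_mul]), ← Finset.sum_filter, Finset.sum_const, nsmul_eq_mul, ← Fintype.card_subtype,
      ← Nat.card_eq_fintype_card] at h2
    have hc : (Nat.card A : ℂ) = Nat.card (commutator A) * Nat.card (Abelianization A) := by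
      rw [← Nat.cast_mul]; congr 1
      exact (Subgroup.card_mul_index (commutator A)).symm
    change (Nat.card A : ℂ)⁻¹ * ((Nat.card (commutator A) : ℂ) * _) = _ at h2
    rw [← mul_assoc (Nat.card (commutator A) : ℂ), ← hc, inv_mul_cancel_left₀ (Nat.cast_ne_zero.2 Nat.card_pos.ne')] at h2
    rw [← Finset.sum_filter_add_sum_filter_not Finset.univ (fun l : A →* ℂˣ => l ≠ 1),
      Finset.sum_eq_zero (s := Finset.univ.filter fun l : A →* ℂˣ => ¬ l ≠ 1)
        (fun l hl => dif_neg (Finset.mem_filter.1 hl).2), add_zero,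
      Finset.sum_subtype (p := fun l : A →* ℂˣ => l ≠ 1) _ (by simp)] at h2
    rw [Finset.sum_congr rfl (g := fun l => if f l = χ then (1 : ℂ) else 0) fun l _ => dif_pos l.2,
      Finset.sum_boole, ← Fintype.card_subtype, ← Nat.card_eq_fintype_card] at h2
    exact_mod_cast h2.symm
  have e := Nat.card_congr (Equiv.sigmaFiberEquiv f)
  rw [Nat.card_sigma, Finset.sum_congr rfl fun χ _ => hfib χ, Finset.sum_const, Finset.card_univ, smul_eq_mul,
    ← Nat.card_eq_fintype_card] at e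
  rw [e, ← CfsgLib.Exceptional.card_hom_units, Nat.card_eq_fintype_card, Nat.card_eq_fintype_card,
    Fintype.card_subtype_compl, Fintype.card_subtype_eq]
  have : 0 < Fintype.card (A →* ℂˣ) := Fintype.card_pos
  omega

/-- The degree factor of a character. -/
noncomputable def kk (_h : Hyp A z) (χ : IrrCharacter (NA A)) : ℕ := charDegree (χ : NA A → ℂ) / mm A

theorem rel_facts (χ : IrrCharacter (NA A)) (hr : Rel (KA A) (χ : NA A → ℂ)) :
    (χ : NA A → ℂ) 1 = ((mm A * h.kk χ : ℕ) : ℂ) ∧ 0 < h.kk χ ∧ h.kk χ ∣ Nat.card A ∧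
      h.kk χ ^ 2 ≤ (Subgroup.center A).index ∧
      (h.kk χ ^ 2 = (Subgroup.center A).index →
        ∀ a : A, a ∉ Subgroup.center A → (χ : NA A → ℂ) (inN a) = 0) := by
  obtain ⟨φ, hφ, hind⟩ := Cfsg.Agent.S1528.result (KA A) h.cent_KA (χ : NA A → ℂ) χ.2 hr
  have hφA : IsIrrCharacter A (φ ∘ (eA A).symm.toMonoidHom) :=
    irr_comp_of_surjective hφ (eA A).symm.toMonoidHom (eA A).symm.surjective
  have h1 : (χ : NA A → ℂ) 1 = ((mm A * charDegree φ : ℕ) : ℂ) := by
    rw [hind, indFun_apply_one, apply_one (isCharacter_of_irr hφ)]; push_cast; rfl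
  have hk : h.kk χ = charDegree φ := by
    rw [apply_one (isCharacter_of_irr χ.2), Nat.cast_inj] at h1
    rw [kk, h1, Nat.mul_div_cancel_left _ h.mm_pos]
  have hdeg : charDegree (φ ∘ (eA A).symm.toMonoidHom) = charDegree φ := by
    simp [charDegree]
  obtain ⟨hle, hvan⟩ := degree_sq_le hφA
  rw [hdeg] at hle hvan
  rw [hk]
  refine ⟨h1, charDegree_pos hφ, h.card_KA ▸ degree_dvd (⟨φ, hφ⟩ : IrrCharacter (KA A)), hle, fun he a ha => ?_⟩
  have hχ : (χ : NA A → ℂ) = indA (φ ∘ (eA A).symm.toMonoidHom) := by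
    rw [hind, indA]; simp
  rw [hχ, h.indA_apply, Finset.sum_eq_zero fun x _ => hvan he _ ?_, mul_zero]
  intro hm
  refine ha (Subgroup.mem_center_iff.2 fun g => (h.act x).injective ?_)
  rw [map_mul, map_mul, Subgroup.mem_center_iff.1 hm]

theorem kk_lin (χ : Lin A) : h.kk χ.1 = 1 := by
  have h1 := χ.2
  rw [apply_one (isCharacter_of_irr χ.1.2), Nat.cast_inj] at h1
  rw [kk, h1, Nat.div_self h.mm_pos]

theorem kk_eq_one {χ : IrrCharacter (NA A)} (hr : Rel (KA A) (χ : NA A → ℂ)) (hk : h.kk χ = 1) :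
    ∃ i : Lin A, i.1 = χ :=
  ⟨⟨χ, by rw [(h.rel_facts χ hr).1, hk, mul_one]⟩, rfl⟩

theorem tiS : TISetup (NA A) ({g | g ∈ A ∧ g ≠ 1} : Set G) :=
  frobTI_setup A fun g hg k hk hgk => by
    by_contra hk1
    exact hg (h.ti g k hk hk1 hgk)

theorem indFun_restrict {φ : NA A → ℂ} (hcl : IsClassFunction (NA A) φ)
    (hφ : ∀ x : NA A, (x : G) ∉ ({g | g ∈ A ∧ g ≠ 1} : Set G) → φ x = 0) (x : NA A) :
    indFun (NA A) φ x = φ x := by
  by_cases hx : (x : G) ∈ ({g | g ∈ A ∧ g ≠ 1} : Set G)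
  · exact indFun_apply_of_mem h.tiS hcl hφ x hx
  · rw [hφ x hx]
    refine indFun_eq_zero_of_no_conj hφ _ fun g hg => ?_
    have hne : (x : G) ≠ 1 := fun e => hg.2 (by rw [e]; group)
    exact h.not_conj x.2 (fun hxA => hx ⟨hxA, hne⟩) hg.1 hg.2 (g := g⁻¹) (by group)

end Hyp

/-- The exceptional family with its multiplicities. -/
structure Fam (A : Subgroup G) where
  ε : ℤ
  sign : ε = 1 ∨ ε = -1
  F : Lin A → IrrCharacter G
  inj : Function.Injective F
  ind : ∀ i j, indFun (NA A) ((i.1 : NA A → ℂ) - (j.1 : NA A → ℂ)) = (ε : ℂ) • ((F i : G → ℂ) - (F j : G → ℂ))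
  restrict : ∀ i j, ∀ x : NA A,
    (F i : G → ℂ) x - (F j : G → ℂ) x = (ε : ℂ) * ((i.1 : NA A → ℂ) x - (j.1 : NA A → ℂ) x)

namespace Hyp

variable {A : Subgroup G} {z : G} (h : Hyp A z)
include h

theorem supp_zero {χ : IrrCharacter (NA A)} (hr : Rel (KA A) (χ : NA A → ℂ)) (i : Lin A) :
    ∀ x : NA A, (x : G) ∉ ({g | g ∈ A ∧ g ≠ 1} : Set G) →
      ((χ : NA A → ℂ) - (h.kk χ : ℂ) • (i.1 : NA A → ℂ)) x = 0 := by
  intro x hx
  by_cases hxA : (x : G) ∈ A
  · have hx1 : x = 1 := Subtype.ext (not_not.1 fun hne => hx ⟨hxA, hne⟩)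
    simp only [hx1, Pi.sub_apply, Pi.smul_apply, smul_eq_mul, (h.rel_facts χ hr).1, i.2]
    push_cast; ring
  · have hxK : x ∉ KA A := hxA
    simp only [Pi.sub_apply, Pi.smul_apply, smul_eq_mul, (rel_induced (KA A) h.cent_KA χ.2 hr).1 x hxK,
      (rel_induced (KA A) h.cent_KA i.1.2 (h.lin_rel i)).1 x hxK, mul_zero, sub_zero]

theorem supp_class (χ : IrrCharacter (NA A)) (i : Lin A) (c : ℂ) :
    IsClassFunction (NA A) ((χ : NA A → ℂ) - c • (i.1 : NA A → ℂ)) := fun g y => by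
  simp only [Pi.sub_apply, Pi.smul_apply]
  rw [isClassFunction (isCharacter_of_irr χ.2) g y, isClassFunction (isCharacter_of_irr i.1.2) g y]

theorem supp_diff (i j : Lin A) : IsClassFunction (NA A) ((i.1 : NA A → ℂ) - (j.1 : NA A → ℂ)) ∧
    ∀ x : NA A, (x : G) ∉ ({g | g ∈ A ∧ g ≠ 1} : Set G) → ((i.1 : NA A → ℂ) - (j.1 : NA A → ℂ)) x = 0 := by
  have h1 := h.supp_class i.1 j 1
  have h2 := h.supp_zero (h.lin_rel i) j
  rw [h.kk_lin, Nat.cast_one, one_smul] at h2
  rw [one_smul] at h1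
  exact ⟨h1, h2⟩

theorem exists_fam (htwo : ∃ i j : Lin A, i ≠ j) : Nonempty (Fam A) := by
  classical
  obtain ⟨i₀, -, -⟩ := id htwo
  haveI : Nonempty (Lin A) := ⟨i₀⟩
  obtain ⟨ε, F, hε, hinj, hind⟩ := exceptional_family (fun i : Lin A => (i.1 : NA A → ℂ)) (fun i => i.1.2)
    (fun i j e => Subtype.ext (Subtype.ext e)) htwo (indFun (NA A))
    (fun i j => gen_indFun _ (gen_sub (gen_of_character (isCharacter_of_irr i.1.2))
      (gen_of_character (isCharacter_of_irr j.1.2))))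
    (fun i j => by rw [indFun_apply_one]; simp [i.2, j.2])
    (fun i j k l => classInner_indFun_indFun h.tiS (h.supp_diff k l).1 (h.supp_diff i j).2 (h.supp_diff k l).2)
    (fun i j k => by simp only [indFun_sub', sub_add_sub_cancel])
  obtain ⟨e, he, rfl⟩ : ∃ e : ℤ, (e = 1 ∨ e = -1) ∧ (e : ℂ) = ε := by
    rcases hε with rfl | rfl
    · exact ⟨1, Or.inl rfl, Int.cast_one⟩
    · exact ⟨-1, Or.inr rfl, by simp⟩
  refine ⟨⟨e, he, F, hinj, hind, fun i j x => ?_⟩⟩
  have h1 := congrFun (hind i j) (x : G)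
  rw [h.indFun_restrict (h.supp_diff i j).1 (h.supp_diff i j).2] at h1
  simp only [Pi.sub_apply, Pi.smul_apply, smul_eq_mul] at h1
  have h2 : (e : ℂ) * (e : ℂ) = 1 := by rcases he with rfl | rfl <;> simp
  linear_combination -(e : ℂ) * h1 - ((F i : G → ℂ) x - (F j : G → ℂ) x) * h2

/-- The norm of the permutation character. -/
theorem norm_ind_le {θ : NA A → ℂ} (hθ : ∀ x, ‖θ x‖ ≤ 1) :
    (classInner (indFun (NA A) θ) (indFun (NA A) θ)).re ≤ 2 := by
  classical
  let one' : NA A → ℂ := fun _ => 1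
  let cnt : G → ℕ := fun g => (Finset.univ.filter fun x : G => x⁻¹ * g * x ∈ NA A).card
  have hone : ∀ g, indFun (NA A) one' g = (((Nat.card (NA A) : ℝ)⁻¹ * cnt g : ℝ) : ℂ) := by
    intro g
    rw [indFun, Finset.sum_congr rfl (g := fun x => if x⁻¹ * g * x ∈ NA A then (1 : ℂ) else 0) (fun x _ => by
      split_ifs with hx
      · exact extendByZero_coe (NA A) one' ⟨_, hx⟩
      · exact extendByZero_of_not_mem _ _ hx), Finset.sum_boole]
    push_cast; rfl
  have hle : ∀ g, ‖indFun (NA A) θ g‖ ≤ ‖indFun (NA A) one' g‖ := by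
    intro g
    rw [hone, Complex.norm_real, Real.norm_of_nonneg (by positivity), indFun, norm_mul, norm_inv, Complex.norm_natCast]
    refine mul_le_mul_of_nonneg_left ((norm_sum_le _ _).trans ?_) (by positivity)
    rw [show (cnt g : ℝ) = ∑ x : G, if x⁻¹ * g * x ∈ NA A then (1 : ℝ) else 0 by rw [Finset.sum_boole]]
    refine Finset.sum_le_sum fun x _ => ?_
    split_ifs with hx
    · rw [extendByZero_coe (NA A) θ ⟨_, hx⟩]; exact hθ _
    · rw [extendByZero_of_not_mem _ _ hx, norm_zero]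
  have key : ∀ f : G → ℂ, (classInner f f).re = (Nat.card G : ℝ)⁻¹ * ∑ g : G, ‖f g‖ ^ 2 := by
    intro f
    rw [classInner_eq, Finset.sum_congr rfl (fun g _ => Complex.mul_conj' (f g))]
    rw [show ((Nat.card G : ℂ))⁻¹ = (((Nat.card G : ℝ)⁻¹ : ℝ) : ℂ) by push_cast; rfl]
    norm_cast
  have h1 : (classInner (indFun (NA A) θ) (indFun (NA A) θ)).re ≤
      (classInner (indFun (NA A) one') (indFun (NA A) one')).re := by
    rw [key, key]
    exact mul_le_mul_of_nonneg_left (Finset.sum_le_sum fun g _ =>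
      pow_le_pow_left₀ (norm_nonneg _) (hle g) 2) (by positivity)
  refine h1.trans (le_of_eq ?_)
  rw [classInner_indFun (NA A) one' (isClassFunction_indFun _ _), classInner_eq]
  simp only [one', one_mul, hone, Complex.conj_ofReal]
  rw [← Complex.ofReal_sum, ← Finset.mul_sum, show ((Nat.card (NA A) : ℂ))⁻¹ = (((Nat.card (NA A) : ℝ)⁻¹ : ℝ) : ℂ) by
    push_cast; rfl, ← Complex.ofReal_mul, Complex.ofReal_re, ← Nat.cast_sum]
  have hswap : ∑ x : NA A, cnt x = ∑ g : G, (Finset.univ.filter fun x : NA A => g⁻¹ * (x : G) * g ∈ NA A).card := by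
    simp only [cnt, Finset.card_filter]
    exact Finset.sum_comm
  have hval : ∀ g : G, (Finset.univ.filter fun x : NA A => g⁻¹ * (x : G) * g ∈ NA A).card =
      if g ∈ NA A then Nat.card (NA A) else mm A := by
    intro g
    split_ifs with hg
    · rw [Finset.filter_true_of_mem fun x _ => (NA A).mul_mem ((NA A).mul_mem ((NA A).inv_mem hg) x.2) hg,
        Finset.card_univ, Nat.card_eq_fintype_card]
    · rw [← h.card_inter hg, Nat.card_eq_fintype_card, Fintype.card_subtype]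
  rw [hswap, Finset.sum_congr rfl fun g _ => hval g, Finset.sum_ite, Finset.sum_const, Finset.sum_const,
    smul_eq_mul, smul_eq_mul]
  have hc1 : (Finset.univ.filter fun g : G => g ∈ NA A).card = Nat.card (NA A) := by
    rw [← Fintype.card_subtype, Nat.card_eq_fintype_card]
  have hc2 : (Finset.univ.filter fun g : G => ¬ g ∈ NA A).card = Nat.card A * Nat.card (NA A) := by
    have := Finset.card_filter_add_card_filter_not (s := (Finset.univ : Finset G)) (fun g => g ∈ NA A)
    rw [hc1, Finset.card_univ, ← Nat.card_eq_fintype_card, h.card_G, ← h.card_NA, add_mul, one_mul] at this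
    omega
  rw [hc1, hc2, show Nat.card A * Nat.card (NA A) * mm A = Nat.card (NA A) * Nat.card (NA A) by
    rw [h.card_NA]; ring]
  have : (Nat.card (NA A) : ℝ) ≠ 0 := Nat.cast_ne_zero.2 Nat.card_pos.ne'
  push_cast
  field_simp
  ring

/-- The multiplicities in the restriction of the family. -/
theorem fam_mult (hn : 3 ≤ Nat.card (Lin A)) (S : Fam A) :
    ∃ (r : ℤ) (α : IrrCharacter (NA A) → ℤ), 0 ≤ r ∧ 0 ≤ S.ε + r ∧ (∀ i : Lin A, α i.1 = 0) ∧
      (∀ (i : Lin A) (χ : IrrCharacter (NA A)), Rel (KA A) (χ : NA A → ℂ) →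
        classInner (fun x : NA A => (S.F i : G → ℂ) x) (χ : NA A → ℂ) =
          (if χ = i.1 then (S.ε : ℂ) else 0) + (α χ : ℂ) + (h.kk χ : ℂ) * (r : ℂ)) ∧
      (∀ (i : Lin A) (χ : IrrCharacter (NA A)), ¬ Rel (KA A) (χ : NA A → ℂ) →
        classInner (fun x : NA A => (S.F i : G → ℂ) x) (χ : NA A → ℂ) = 0) ∧
      ∀ χ : IrrCharacter (NA A), Rel (KA A) (χ : NA A → ℂ) →
        (2 * h.kk χ + 2 ≤ Nat.card (Lin A) ∨ 2 * h.kk χ + 1 = Nat.card (Lin A) → α χ = 0) ∧
        (h.kk χ + 1 = Nat.card (Lin A) → α χ = 0 ∨ α χ = S.ε) := by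
  classical
  obtain ⟨i₀, j₀, hij⟩ : ∃ i j : Lin A, i ≠ j := by
    haveI : Nontrivial (Lin A) := Finite.one_lt_card_iff_nontrivial.1 (by omega)
    exact exists_pair_ne _
  have hres := fun i : Lin A => isCharacter_restrict (isCharacter_of_irr (S.F i).2) (NA A)
  choose b hb using fun (i : Lin A) (χ : IrrCharacter (NA A)) => classInner_character_nat (hres i) χ
  have key : ∀ i j χ, (b i χ : ℤ) - b j χ = S.ε * ((if χ = i.1 then 1 else 0) - (if χ = j.1 then 1 else 0)) := by
    intro i j χ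
    have e : classInner ((fun x : NA A => (S.F i : G → ℂ) x) - fun x : NA A => (S.F j : G → ℂ) x) (χ : NA A → ℂ) =
        classInner ((S.ε : ℂ) • ((i.1 : NA A → ℂ) - (j.1 : NA A → ℂ))) (χ : NA A → ℂ) :=
      congrArg (fun φ => classInner φ (χ : NA A → ℂ)) (funext fun x => by
        simp only [Pi.sub_apply, Pi.smul_apply, smul_eq_mul]; exact S.restrict i j x)
    rw [classInner_sub_left, classInner_smul_left, classInner_sub_left, classInner_irr, classInner_irr, hb, hb] at e
    simp only [eq_comm (a := i.1), eq_comm (a := j.1)] at e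
    apply Int.cast_injective (α := ℂ)
    push_cast
    exact e
  have hfrob : ∀ (f : NA A → ℂ) (i : Lin A), classInner (indFun (NA A) f) (S.F i : G → ℂ) =
      classInner f (fun x : NA A => (S.F i : G → ℂ) x) :=
    fun f i => classInner_indFun (NA A) f (isClassFunction (isCharacter_of_irr (S.F i).2))
  have hswap : ∀ (i : Lin A) (χ : IrrCharacter (NA A)),
      classInner (χ : NA A → ℂ) (fun x : NA A => (S.F i : G → ℂ) x) = (b i χ : ℂ) := fun i χ => by
    rw [classInner_comm, hb, map_natCast]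
  -- the multiplicity of another member of the family
  have key2 : ∀ i k l : Lin A, (b i k.1 : ℤ) - b i l.1 = S.ε * ((if k = i then 1 else 0) - (if l = i then 1 else 0)) := by
    intro i k l
    have e := hfrob ((k.1 : NA A → ℂ) - (l.1 : NA A → ℂ)) i
    rw [S.ind, classInner_smul_left, classInner_sub_left, classInner_sub_left, classInner_irr, classInner_irr,
      hswap, hswap] at e
    simp only [S.inj.eq_iff] at e
    apply Int.cast_injective (α := ℂ)
    push_cast
    exact e.symm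
  obtain ⟨r, hr⟩ : ∃ r : ℤ, r = (b i₀ j₀.1 : ℤ) := ⟨_, rfl⟩
  have hne' : j₀.1 ≠ i₀.1 := fun e => hij (Subtype.ext e).symm
  have hlin : ∀ i j : Lin A, (b i j.1 : ℤ) = (if j.1 = i.1 then S.ε else 0) + r := by
    intro i j
    have h1 := key i i₀ j.1
    have h2 := key2 i₀ j j₀
    have e1 : (j = i₀) ↔ j.1 = i₀.1 := Subtype.ext_iff
    rw [if_neg (show j₀ ≠ i₀ from fun e => hij e.symm)] at h2
    simp only [e1] at h2
    split_ifs at h1 h2 ⊢ <;> linarith
  refine ⟨r, fun χ => (b i₀ χ : ℤ) - (if χ = i₀.1 then S.ε else 0) - h.kk χ * r, hr ▸ Int.natCast_nonneg _,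
    ?_, ?_, ?_, ?_, ?_⟩
  · have := hlin i₀ i₀
    rw [if_pos rfl] at this
    rw [← this]; exact Int.natCast_nonneg _
  · intro i
    simp only [h.kk_lin, Nat.cast_one, one_mul, hlin i₀ i]
    ring
  · intro i χ _
    rw [hb]
    have := key i i₀ χ
    have e : (b i χ : ℤ) = (if χ = i.1 then S.ε else 0) +
        ((b i₀ χ : ℤ) - (if χ = i₀.1 then S.ε else 0) - h.kk χ * r) + h.kk χ * r := by
      split_ifs at this ⊢ <;> linarith
    have e' := congrArg (Int.cast : ℤ → ℂ) e
    push_cast at e'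
    rw [e']
    simp only [Int.cast_sub, Int.cast_mul, Int.cast_natCast, apply_ite (Int.cast (R := ℂ)), Int.cast_zero]
  · intro i χ hnr
    rw [hb]
    have hind : ∀ j, b j χ = b i χ := by
      intro j
      have := key j i χ
      rw [if_neg (show χ ≠ j.1 from fun e => hnr (e.symm ▸ h.lin_rel j)),
        if_neg (show χ ≠ i.1 from fun e => hnr (e.symm ▸ h.lin_rel i))] at this
      omega
    have hle := (parseval_family (isClassFunction_indFun (NA A) (χ : NA A → ℂ)) S.F S.inj).1.trans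
      (h.norm_ind_le fun x => (norm_le (isCharacter_of_irr χ.2) x).trans (le_of_eq (by
        rw [charDegree, h.nonrel_one χ.2 hnr, Complex.one_re, Nat.floor_one, Nat.cast_one])))
    rw [Finset.sum_congr rfl (g := fun _ => (b i χ : ℝ) ^ 2) (fun j _ => by
      rw [hfrob, hswap, hind, Complex.norm_natCast]), Finset.sum_const, Finset.card_univ, nsmul_eq_mul,
      ← Nat.card_eq_fintype_card] at hle
    have hle' : Nat.card (Lin A) * b i χ ^ 2 ≤ 2 := by exact_mod_cast hle
    rcases Nat.eq_zero_or_pos (b i χ) with h0 | h0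
    · rw [h0, Nat.cast_zero]
    · exfalso
      have : 1 ≤ b i χ ^ 2 := Nat.one_le_pow _ _ h0
      nlinarith
  intro χ hrel
  obtain ⟨k, hk⟩ : ∃ k, k = h.kk χ := ⟨_, rfl⟩
  obtain ⟨a, ha⟩ : ∃ a : ℤ, a = (b i₀ χ : ℤ) - (if χ = i₀.1 then S.ε else 0) - k * r := ⟨_, rfl⟩
  obtain ⟨n, hnn⟩ : ∃ n, n = Nat.card (Lin A) := ⟨_, rfl⟩
  suffices hsuff : (2 * k + 2 ≤ n ∨ 2 * k + 1 = n → a = 0) ∧ (k + 1 = n → a = 0 ∨ a = S.ε) by
    subst ha hk hnn
    exact hsuff
  by_cases hlinχ : ∃ i : Lin A, i.1 = χ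
  · obtain ⟨i, rfl⟩ := hlinχ
    have : a = 0 := by
      rw [ha, hlin i₀ i, hk, h.kk_lin]; ring
    exact ⟨fun _ => this, fun _ => Or.inl this⟩
  push Not at hlinχ
  obtain ⟨f, hf⟩ : ∃ f, f = indFun (NA A) ((χ : NA A → ℂ) - (k : ℂ) • (i₀.1 : NA A → ℂ)) := ⟨_, rfl⟩
  have hcoef : ∀ i, classInner f (S.F i : G → ℂ) = ((a - (if i = i₀ then (k : ℤ) * S.ε else 0) : ℤ) : ℂ) := by
    intro i
    rw [hf, hfrob, classInner_sub_left, classInner_smul_left, hswap, hswap]
    have h1 := key i i₀ χ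
    rw [if_neg (fun e => hlinχ i e.symm), if_neg (fun e => hlinχ i₀ e.symm)] at h1
    have h2 := hlin i i₀
    have e : (b i χ : ℤ) - k * b i i₀.1 = a - (if i = i₀ then (k : ℤ) * S.ε else 0) := by
      rw [ha, if_neg (fun e => hlinχ i₀ e.symm), h2]
      simp only [← Subtype.ext_iff, eq_comm (a := i₀)]
      split_ifs <;> linarith
    rw [← e]; push_cast; rfl
  have hnorm : (classInner f f).re = 1 + (k : ℝ) ^ 2 := by
    have hs := hk ▸ h.supp_zero hrel i₀
    rw [hf, classInner_indFun_indFun h.tiS (h.supp_class χ i₀ _) hs hs]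
    simp only [classInner_sub_left, classInner_sub_right, classInner_smul_left,
      CfsgLib.Exceptional.classInner_smul_right, classInner_irr, if_true, map_natCast]
    rw [if_neg (hlinχ i₀), if_neg (show χ ≠ i₀.1 from fun e => hlinχ i₀ e.symm)]
    rw [show ((1 : ℂ) - k * 0 - k * (0 - k * 1)) = ((1 + (k : ℝ) ^ 2 : ℝ) : ℂ) by push_cast; ring,
      Complex.ofReal_re]
  obtain ⟨hle, heq⟩ := parseval_family (hf ▸ isClassFunction_indFun _ _ : IsClassFunction G f) S.F S.inj
  have hsum : ∑ i : Lin A, ‖classInner f (S.F i : G → ℂ)‖ ^ 2 =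
      ((n * a ^ 2 - 2 * k * S.ε * a + k ^ 2 : ℤ) : ℝ) := by
    rw [Finset.sum_congr rfl (g := fun i => (((a : ℝ) - (if i = i₀ then (k : ℝ) * S.ε else 0)) ^ 2)) fun i _ => by
      rw [hcoef, Complex.norm_intCast, sq_abs]; push_cast; rfl]
    simp only [sub_sq, Finset.sum_add_distrib, Finset.sum_sub_distrib, mul_ite, mul_zero, ite_pow, zero_pow two_ne_zero,
      Finset.sum_const, Finset.card_univ, nsmul_eq_mul, Finset.sum_ite_eq', Finset.mem_univ, if_true]
    rw [← Nat.card_eq_fintype_card, ← hnn]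
    have hε : (S.ε : ℝ) ^ 2 = 1 := by rcases S.sign with e | e <;> rw [e] <;> norm_num
    push_cast
    linear_combination (k : ℝ) ^ 2 * hε
  rw [hsum, hnorm] at hle heq
  have hle' : (n : ℤ) * a ^ 2 - 2 * k * S.ε * a + k ^ 2 ≤ 1 + k ^ 2 := by exact_mod_cast hle
  have hbig : ∀ {t : ℤ}, t ^ 2 = a ^ 2 → 0 ≤ t → 2 * k * t + 2 ≤ (n : ℤ) * t ^ 2 → False := fun {t} ht ht0 hh => by
    have : S.ε * a ≤ t := by
      rcases S.sign with e | e <;> rw [e] <;> nlinarith
    nlinarith
  have hzero : (2 * k + 2 ≤ n) → a = 0 := fun hb => by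
    by_contra h0
    have h1 : (1 : ℤ) ≤ |a| := Int.one_le_abs h0
    refine hbig (sq_abs a) (abs_nonneg a) ?_
    have : (2 * k + 2 : ℤ) ≤ n := by exact_mod_cast hb
    nlinarith [mul_le_mul_of_nonneg_left h1 (mul_nonneg (Int.natCast_nonneg n) (abs_nonneg a)),
      mul_le_mul_of_nonneg_right this (abs_nonneg a)]
  refine ⟨fun hcase => hcase.elim hzero fun hc => ?_, fun hc => ?_⟩
  · by_contra h0
    have hcn : (2 * k + 1 : ℤ) = n := by exact_mod_cast hc
    have hkpos : (1 : ℤ) ≤ k := by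
      have := (h.rel_facts χ hrel).2.1
      omega
    have ha1 : a = S.ε := by
      have h1 : (1 : ℤ) ≤ |a| := Int.one_le_abs h0
      rcases eq_or_lt_of_le h1 with h2 | h2
      · rcases abs_eq (zero_le_one' ℤ) |>.1 h2.symm with e | e <;> rcases S.sign with e' | e' <;>
          first
          | (rw [e, e']; done)
          | (exfalso; rw [e, e'] at hle'; nlinarith)
      · exact absurd (hbig (sq_abs a) (abs_nonneg a) (by
          nlinarith [mul_le_mul_of_nonneg_left (show (2 : ℤ) ≤ |a| by omega)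
            (mul_nonneg (Int.natCast_nonneg n) (abs_nonneg a))])) id
    have h1 := congrFun (heq (by
      have : (1 : ℤ) + k ^ 2 ≤ n * a ^ 2 - 2 * k * S.ε * a + k ^ 2 := by
        rw [ha1]; rcases S.sign with e | e <;> rw [e] <;> nlinarith
      exact_mod_cast this)) 1
    have hs1 := (hk ▸ h.supp_zero hrel i₀) 1 (by simp)
    nth_rw 1 [hf] at h1
    rw [indFun_apply_one, hs1, mul_zero] at h1
    simp only [Finset.sum_apply, Pi.smul_apply, smul_eq_mul, hcoef] at h1
    have hX : ∀ i, (S.F i : G → ℂ) 1 = (S.F i₀ : G → ℂ) 1 := fun i => by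
      have h2 := congrFun (S.ind i i₀) 1
      rw [indFun_apply_one, Pi.sub_apply, i.2, i₀.2, sub_self, mul_zero, Pi.smul_apply, Pi.sub_apply, smul_eq_mul] at h2
      have hε0 : (S.ε : ℂ) ≠ 0 := by rcases S.sign with e | e <;> simp [e]
      exact sub_eq_zero.1 ((mul_eq_zero.1 h2.symm).resolve_left hε0)
    simp only [hX, ← Finset.sum_mul] at h1
    have h3 : ((∑ i : Lin A, (a - (if i = i₀ then (k : ℤ) * S.ε else 0)) : ℤ) : ℂ) = 0 := by
      rw [Int.cast_sum]
      exact (mul_eq_zero.1 h1.symm).resolve_right (apply_one_ne_zero (S.F i₀).2)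
    rw [Int.cast_eq_zero, Finset.sum_sub_distrib, Finset.sum_ite_eq', if_pos (Finset.mem_univ _), Finset.sum_const,
      Finset.card_univ, nsmul_eq_mul, ← Nat.card_eq_fintype_card, ← hnn, ha1] at h3
    rcases S.sign with e | e <;> rw [e] at h3 <;> linarith
  · by_cases h0 : a = 0
    · exact Or.inl h0
    right
    have hcn : (k + 1 : ℤ) = n := by exact_mod_cast hc
    have hn3 : (3 : ℤ) ≤ n := by rw [hnn]; exact_mod_cast hn
    have h1 : (1 : ℤ) ≤ |a| := Int.one_le_abs h0
    rcases eq_or_lt_of_le h1 with h2 | h2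
    · rcases abs_eq (zero_le_one' ℤ) |>.1 h2.symm with e | e <;> rcases S.sign with e' | e' <;>
        first
        | (rw [e, e']; done)
        | (exfalso; rw [e, e'] at hle'; nlinarith)
    · exact absurd (hbig (sq_abs a) (abs_nonneg a) (by
          nlinarith [mul_le_mul_of_nonneg_left (show (2 : ℤ) ≤ |a| by omega)
            (mul_nonneg (Int.natCast_nonneg n) (abs_nonneg a))])) id

end Hyp

end CfsgLib.TICent
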