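import Cfsg.Agent.CA.TICent.Chars
import Cfsg.Agent.BrauerInd.FSInd
import Cfsg.Agent.CharBasics.Central

/-!
# The kernel is commutative
-/

set_option autoImplicit false
set_option linter.style.haveILetI false
set_option linter.unusedSectionVars false

namespace CfsgLib.TICent

open Cfsg CfsgLib.CharBasics CfsgLib.Exceptional
open scoped ComplexConjugate commutatorElement

universe u

variable {G : Type u} [Group G] [Fintype G]

theorem conj_indFun (H : Subgroup G) (θ : H → ℂ) (g : G) :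
    conj (indFun H θ g) = indFun H (fun x => conj (θ x)) g := by
  classical
  simp only [indFun, map_mul, map_inv₀, map_natCast, map_sum]
  congr 1
  refine Finset.sum_congr rfl fun x _ => ?_
  by_cases hx : x⁻¹ * g * x ∈ H
  · rw [extendByZero_coe H θ ⟨_, hx⟩, extendByZero_coe H _ ⟨_, hx⟩]
  · rw [extendByZero_of_not_mem H θ hx, extendByZero_of_not_mem H _ hx, map_zero]

namespace Hyp

variable {A : Subgroup G} {z : G} (h : Hyp A z)
include h

/-- Conjugate to a nontrivial element of `A`. -/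
def ConjA (_h : Hyp A z) (g : G) : Prop := ∃ x : G, x * g * x⁻¹ ∈ ({g | g ∈ A ∧ g ≠ 1} : Set G)

theorem sum_class [Fintype A] [DecidableEq A] [DecidablePred h.ConjA] {f : G → ℂ} (hf : IsClassFunction G f) :
    ∑ g : G, (if h.ConjA g then f g else 0) =
      ((Nat.card A : ℂ) + 1) * ∑ a : A, (if a ≠ 1 then f a else 0) := by
  classical
  let φ : NA A → ℂ := fun x => if (x : G) ∈ ({g | g ∈ A ∧ g ≠ 1} : Set G) then f x else 0
  have hφ : ∀ x : NA A, (x : G) ∉ ({g | g ∈ A ∧ g ≠ 1} : Set G) → φ x = 0 := fun x hx => if_neg hx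
  have hcl : IsClassFunction (NA A) φ := by
    intro x y
    have hiff : ((y * x * y⁻¹ : NA A) : G) ∈ ({g | g ∈ A ∧ g ≠ 1} : Set G) ↔
        (x : G) ∈ ({g | g ∈ A ∧ g ≠ 1} : Set G) := by
      show ((y : G) * x * (y : G)⁻¹ ∈ A ∧ (y : G) * x * (y : G)⁻¹ ≠ 1) ↔ ((x : G) ∈ A ∧ (x : G) ≠ 1)
      rw [← Subgroup.mem_normalizer_iff.1 y.2, ne_eq, conj_eq_one_iff]
    simp only [φ, hiff]
    exact if_congr Iff.rfl (hf x y) rfl
  have hind : ∀ g : G, indFun (NA A) φ g = if h.ConjA g then f g else 0 := by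
    intro g
    split_ifs with hg
    · obtain ⟨x, hx⟩ := hg
      obtain ⟨y, hy⟩ : ∃ y : NA A, (y : G) = x * g * x⁻¹ := ⟨⟨_, Subgroup.le_normalizer hx.1⟩, rfl⟩
      rw [← hy] at hx
      rw [← isClassFunction_indFun (NA A) φ g x, ← hy, h.indFun_restrict hcl hφ y]
      show (if _ then f y else 0) = _
      rw [if_pos hx, hy, hf g x]
    · exact indFun_eq_zero_of_no_conj hφ g fun x hx => hg ⟨x, hx⟩
  have h1 := classInner_indFun (NA A) φ (f := fun _ => (1 : ℂ)) (fun _ _ => rfl)
  simp only [classInner_eq, map_one, mul_one, hind] at h1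
  have h2 : ∑ a : A, (if a ≠ 1 then f a else 0) = ∑ x : NA A, φ x := by
    refine Fintype.sum_of_injective (fun a : A => inN a) (fun a b e => ?_) _ _ (fun x hx => ?_) fun a => ?_
    · exact Subtype.ext (congrArg Subtype.val e :)
    · exact if_neg fun hxS => hx ⟨⟨x, hxS.1⟩, Subtype.ext rfl⟩
    · refine if_congr ?_ rfl rfl
      exact ⟨fun ha => ⟨a.2, fun e => ha (Subtype.ext e)⟩, fun ha e => ha.2 (congrArg Subtype.val e)⟩
  rw [← h2, h.card_G, h.card_NA] at h1
  push_cast at h1
  have hA : (Nat.card A : ℂ) * (mm A : ℂ) ≠ 0 := mul_ne_zero (Nat.cast_ne_zero.2 Nat.card_pos.ne') h.mm_cast_ne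
  have hA1 : (Nat.card A : ℂ) + 1 ≠ 0 := Nat.cast_add_one_ne_zero _
  rw [inv_mul_eq_iff_eq_mul₀ (mul_ne_zero hA1 hA), mul_assoc, mul_inv_cancel_left₀ hA] at h1
  exact h1

/-- Squaring only moves sums over the conjugates of `A`. -/
theorem sum_sq [Fintype A] [DecidableEq A] {f : G → ℂ} (hf : IsClassFunction G f) :
    ∑ g : G, f (g * g) =
      ∑ g : G, f g + ((Nat.card A : ℂ) + 1) * ∑ a : A, (f ((a : G) * a) - f a) := by
  classical
  have hcl : IsClassFunction G (fun g => f (g * g) - f g) := fun g y => by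
    show f (y * g * y⁻¹ * (y * g * y⁻¹)) - f (y * g * y⁻¹) = _
    rw [show y * g * y⁻¹ * (y * g * y⁻¹) = y * (g * g) * y⁻¹ by group, hf, hf]
  have h1 := h.sum_class hcl
  rw [Finset.sum_congr rfl (s₁ := (Finset.univ : Finset A)) (g := fun a : A => f ((a : G) * a) - f a) fun a _ => by
    split_ifs with ha
    · rfl
    · rw [not_not.1 ha, Subgroup.coe_one, mul_one, sub_self]] at h1
  rw [← h1, ← Finset.sum_filter, ← sub_eq_iff_eq_add', ← Finset.sum_sub_distrib,
    ← Finset.sum_filter_add_sum_filter_not Finset.univ h.ConjA (fun g => f (g * g) - f g)]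
  refine add_eq_left.2 ?_
  rw [Finset.sum_sub_distrib, sub_eq_zero]
  have hodd : ∀ g, ¬ h.ConjA g → Odd (orderOf g) := by
    intro g hg
    rcases h.odd_or_conj g with ho | ⟨x, hx⟩
    · exact ho
    · have : g = 1 := by
        by_contra hne
        exact hg ⟨x⁻¹, by rw [inv_inv]; exact hx, fun e => hne (conj_eq_one_iff.1 e)⟩
      rw [this, orderOf_one]; exact odd_one
  have hroot : ∀ g : G, Odd (orderOf g) → (g * g) ^ ((orderOf g + 1) / 2) = g := by
    intro g ho
    obtain ⟨k, hk⟩ := ho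
    rw [hk, show (2 * k + 1 + 1) / 2 = k + 1 by omega, ← sq, ← pow_mul, show 2 * (k + 1) = orderOf g + 1 by omega,
      pow_add, pow_orderOf_eq_one, pow_one, one_mul]
  have hmem : ∀ g, ¬ h.ConjA g → ¬ h.ConjA (g * g) := by
    rintro g hg ⟨x, hx, hx1⟩
    apply hg
    refine ⟨x, ?_, fun e => hx1 ?_⟩
    · rw [show x * g * x⁻¹ = (x * (g * g) * x⁻¹) ^ ((orderOf g + 1) / 2) by rw [conj_pow, hroot g (hodd g hg)]]
      exact pow_mem hx _
    · have : g = 1 := conj_eq_one_iff.1 e
      rw [this]; simp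
  have hinj : Set.InjOn (fun g : G => g * g) (Finset.univ.filter fun g => ¬ h.ConjA g : Finset G) := by
    intro a ha b hb e
    simp only [Finset.coe_filter, Finset.mem_univ, true_and, Set.mem_setOf_eq] at ha hb
    have e' : a * a = b * b := e
    have hoa : orderOf (a * a) = orderOf a := by
      rw [← sq]; exact (Nat.Coprime.orderOf_pow (Nat.coprime_two_right.2 (hodd a ha)))
    have hob : orderOf (b * b) = orderOf b := by
      rw [← sq]; exact (Nat.Coprime.orderOf_pow (Nat.coprime_two_right.2 (hodd b hb)))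
    rw [← hroot a (hodd a ha), ← hroot b (hodd b hb), ← hoa, ← hob, e']
  have himg : (Finset.univ.filter fun g => ¬ h.ConjA g).image (fun g => g * g) =
      Finset.univ.filter fun g => ¬ h.ConjA g := by
    refine Finset.eq_of_subset_of_card_le ?_ (by rw [Finset.card_image_of_injOn hinj])
    intro y hy
    obtain ⟨g, hg, rfl⟩ := Finset.mem_image.1 hy
    exact Finset.mem_filter.2 ⟨Finset.mem_univ _, hmem g (Finset.mem_filter.1 hg).2⟩
  conv_rhs => rw [← himg]
  rw [Finset.sum_image hinj]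

theorem card_centralizer_G {a : A} (ha : a ≠ 1) :
    Nat.card (Subgroup.centralizer ({(a : G)} : Set G)) = Nat.card (Subgroup.centralizer ({a} : Set A)) ∧
    Nat.card (Subgroup.centralizer ({inN a} : Set (NA A))) = Nat.card (Subgroup.centralizer ({a} : Set A)) := by
  have ha' : (a : G) ≠ 1 := fun e => ha (Subtype.ext e)
  have key : ∀ x : G, x ∈ Subgroup.centralizer ({(a : G)} : Set G) → x ∈ A := fun x hx => h.cent a a.2 ha' hx
  constructor
  · exact Nat.card_congr
      { toFun := fun x => ⟨⟨x.1, key _ x.2⟩, Subgroup.mem_centralizer_singleton_iff.2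
          (Subtype.ext (Subgroup.mem_centralizer_singleton_iff.1 x.2))⟩
        invFun := fun x => ⟨x.1.1, Subgroup.mem_centralizer_singleton_iff.2
          (congrArg Subtype.val (Subgroup.mem_centralizer_singleton_iff.1 x.2) :)⟩
        left_inv := fun _ => rfl
        right_inv := fun _ => rfl }
  · exact Nat.card_congr
      { toFun := fun x => ⟨⟨x.1.1, key _ (Subgroup.mem_centralizer_singleton_iff.2
            (congrArg Subtype.val (Subgroup.mem_centralizer_singleton_iff.1 x.2) :))⟩,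
          Subgroup.mem_centralizer_singleton_iff.2
            (Subtype.ext (congrArg Subtype.val (Subgroup.mem_centralizer_singleton_iff.1 x.2) :))⟩
        invFun := fun x => ⟨⟨x.1.1, Subgroup.le_normalizer x.1.2⟩, Subgroup.mem_centralizer_singleton_iff.2
          (Subtype.ext (congrArg Subtype.val (Subgroup.mem_centralizer_singleton_iff.1 x.2) :))⟩
        left_inv := fun _ => rfl
        right_inv := fun _ => rfl }

/-- A member of the family belonging to a real character is real. -/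
theorem fam_real (S : Fam A) {i j : Lin A} (hij : j ≠ i)
    (hi : ∀ x, conj ((i.1 : NA A → ℂ) x) = (i.1 : NA A → ℂ) x) (g : G) : ((S.F i : G → ℂ) g).im = 0 := by
  classical
  obtain ⟨j', hj'⟩ : ∃ j' : Lin A, ∀ x, (j'.1 : NA A → ℂ) x = conj ((j.1 : NA A → ℂ) x) :=
    ⟨⟨⟨_, BrauerInd.isIrr_star j.1.2⟩, by show conj ((j.1 : NA A → ℂ) 1) = _; rw [j.2, map_natCast]⟩, fun _ => rfl⟩
  have hj'i : j' ≠ i := fun e => hij (Subtype.ext (Subtype.ext (funext fun x => by
    have := hj' x
    rw [e, ← hi x] at this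
    exact ((starRingEnd ℂ).injective this).symm)))
  have hε : (S.ε : ℂ) ≠ 0 := by rcases S.sign with e | e <;> simp [e]
  let st : Lin A → IrrCharacter G := fun k => ⟨_, BrauerInd.isIrr_star (S.F k).2⟩
  have key : (st i : G → ℂ) - (st j : G → ℂ) = (S.F i : G → ℂ) - (S.F j' : G → ℂ) := by
    funext y
    have h1 := congrArg conj (congrFun (S.ind i j) y)
    rw [conj_indFun, show (fun x => conj (((i.1 : NA A → ℂ) - (j.1 : NA A → ℂ)) x)) =
      (i.1 : NA A → ℂ) - (j'.1 : NA A → ℂ) from funext fun x => by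
        simp only [Pi.sub_apply, map_sub, hi, hj'], S.ind i j'] at h1
    simp only [Pi.smul_apply, Pi.sub_apply, smul_eq_mul, map_mul, map_intCast] at h1
    exact (mul_left_cancel₀ hε (h1.trans (by rw [map_sub]; rfl))).symm
  have h2 := congrArg (fun φ => classInner φ (S.F i : G → ℂ)) key
  simp only [classInner_sub_left, classInner_irr, if_true, if_neg (S.inj.ne hj'i)] at h2
  have : st i = S.F i := by
    by_contra hne
    rw [if_neg hne] at h2
    split_ifs at h2 <;> norm_num at h2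
  exact Complex.conj_eq_iff_im.1 (congrFun (congrArg Subtype.val this) g)

set_option maxHeartbeats 1600000 in
/-- The kernel is commutative. -/
theorem kernel_comm : ∀ a b : A, Commute a b := by
  classical
  by_contra hna
  haveI : Fintype A := Fintype.ofFinite _
  obtain ⟨hzv, hq2, hev, hbound⟩ := h.arith hna rfl rfl
  obtain ⟨n, hn⟩ : ∃ n, n = Nat.card (Lin A) := ⟨_, rfl⟩
  have hcl := h.card_lin
  rw [← hn] at hcl
  have h3m := h.three_le_mm
  obtain ⟨M, hM⟩ : ∃ M, M = mm A := ⟨_, rfl⟩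
  have hnm : mm A + 2 ≤ n := by nlinarith
  obtain ⟨S⟩ := h.exists_fam (by
    haveI : Nontrivial (Lin A) := Finite.one_lt_card_iff_nontrivial.1 (by omega)
    exact exists_pair_ne _)
  obtain ⟨r, α, hr0, hεr, hαlin, hrel, hnon, hsmall⟩ := h.fam_mult (by omega) S
  simp only [← hn] at hsmall
  have hm0 : ((mm A : ℕ) : ℂ) ≠ 0 := h.mm_cast_ne
  -- values on `A`
  let Rs : Finset (IrrCharacter (NA A)) := Finset.univ.filter fun χ => Rel (KA A) (χ : NA A → ℂ)
  have hval : ∀ (i : Lin A) (a : A), a ≠ 1 → (S.F i : G → ℂ) a =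
      (S.ε : ℂ) * (i.1 : NA A → ℂ) (inN a) + ∑ χ ∈ Rs, (α χ : ℂ) * (χ : NA A → ℂ) (inN a) - r := by
    intro i a ha
    have h1 := value_formula (KA A) h.cent_KA (fun x : NA A => (S.F i : G → ℂ) x)
      (isClassFunction (isCharacter_restrict (isCharacter_of_irr (S.F i).2) (NA A)))
      (fun χ => (if χ = i.1 then (S.ε : ℂ) else 0) + (α χ : ℂ)) ((r : ℂ) / (mm A : ℂ))
      (fun χ hχ => by
        rw [hrel i χ hχ, (h.rel_facts χ hχ).1]
        push_cast
        field_simp)
      (k := inN a) (Subgroup.mem_subgroupOf.2 a.2)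
      (fun e => ha (Subtype.ext (congrArg (fun y : NA A => (y : G)) e :)))
    rw [Finset.sum_eq_zero (s := Finset.univ.filter fun χ : IrrCharacter (NA A) => ¬ Rel (KA A) (χ : NA A → ℂ))
      (fun χ hχ => by rw [hnon i χ (Finset.mem_filter.1 hχ).2, zero_mul]), add_zero,
      div_mul_cancel₀ _ hm0] at h1
    rw [show (S.F i : G → ℂ) a = (S.F i : G → ℂ) ((inN a : NA A) : G) from rfl, h1]
    simp only [add_mul, Finset.sum_add_distrib, ite_mul, zero_mul, Finset.sum_ite_eq', Rs]
    rw [if_pos]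
    exact Finset.mem_filter.2 ⟨Finset.mem_univ _, h.lin_rel i⟩
  have hsumA : ∀ i : Lin A, ∑ a : A, (S.F i : G → ℂ) a = 0 := by
    intro i
    have h1 : ∀ a : A, (S.F i : G → ℂ) a = ∑ χ : IrrCharacter (NA A),
        classInner (fun x : NA A => (S.F i : G → ℂ) x) (χ : NA A → ℂ) * (χ : NA A → ℂ) (inN a) := by
      intro a
      have := congrFun (classFun_expand (f := fun x : NA A => (S.F i : G → ℂ) x)
        (isClassFunction (isCharacter_restrict (isCharacter_of_irr (S.F i).2) (NA A)))) (inN a)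
      simpa only [Finset.sum_apply, Pi.smul_apply, smul_eq_mul] using this
    rw [Finset.sum_congr rfl fun a _ => h1 a, Finset.sum_comm]
    refine Finset.sum_eq_zero fun χ _ => ?_
    rw [← Finset.mul_sum]
    by_cases hr' : Rel (KA A) (χ : NA A → ℂ)
    · rw [h.sum_A_rel χ.2 hr', mul_zero]
    · rw [hnon i χ hr', zero_mul]
  have hne1 : ∀ i, S.F i ≠ oneChar := by
    intro i e
    have hnr : ¬ Rel (KA A) ((oneChar : IrrCharacter (NA A)) : NA A → ℂ) := fun hr' => (h.rel_iff oneChar.2).1 hr' rfl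
    have h1 := hnon i oneChar hnr
    rw [e, show (fun x : NA A => ((oneChar : IrrCharacter G) : G → ℂ) x) = ((oneChar : IrrCharacter (NA A)) : NA A → ℂ)
      from rfl, classInner_irr, if_pos rfl] at h1
    exact one_ne_zero h1
  -- a real member
  obtain ⟨l, hl2, hl1⟩ : ∃ l : A →* ℂˣ, l ^ 2 = 1 ∧ l ≠ 1 := by
    haveI : Fact (Nat.Prime 2) := ⟨Nat.prime_two⟩
    haveI : Finite (A →* ℂˣ) := Nat.finite_of_card_ne_zero (by
      rw [CfsgLib.Exceptional.card_hom_units]; exact Nat.card_pos.ne')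
    obtain ⟨l, hl⟩ := exists_prime_orderOf_dvd_card' (G := A →* ℂˣ) 2 (by rw [CfsgLib.Exceptional.card_hom_units]; exact hev)
    exact ⟨l, by rw [← hl]; exact pow_orderOf_eq_one l, fun e => by rw [e, orderOf_one] at hl; omega⟩
  have hlval : ∀ a : A, conj ((l a : ℂ)) = (l a : ℂ) := by
    intro a
    have h1 : (l a : ℂ) * (l a : ℂ) = 1 := by
      have := DFunLike.congr_fun hl2 a
      rw [MonoidHom.pow_apply, sq, MonoidHom.one_apply] at this
      rw [← Units.val_mul, this, Units.val_one]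
    rcases mul_self_eq_one_iff.1 h1 with e | e <;> simp [e]
  obtain ⟨i₁, hi₁⟩ : ∃ i₁, i₁ = h.linOf l hl1 := ⟨_, rfl⟩
  have hreal : ∀ x, conj ((i₁.1 : NA A → ℂ) x) = (i₁.1 : NA A → ℂ) x := by
    intro x
    subst hi₁
    show conj (indA (fun a : A => (l a : ℂ)) x) = indA (fun a : A => (l a : ℂ)) x
    rw [indA, conj_indFun]
    simp only [hlval]
  obtain ⟨j₁, hj₁⟩ : ∃ j₁, j₁ ≠ i₁ := by
    haveI : Nontrivial (Lin A) := Finite.one_lt_card_iff_nontrivial.1 (by omega)
    exact exists_ne i₁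
  obtain ⟨ν, hν, hνsum⟩ : ∃ ν : ℤ, (ν = 1 ∨ ν = -1) ∧
      ∑ g : G, (S.F i₁ : G → ℂ) (g * g) = (Nat.card G : ℂ) * (ν : ℂ) := by
    have hG : (Nat.card G : ℂ) ≠ 0 := Nat.cast_ne_zero.2 Nat.card_pos.ne'
    rcases BrauerInd.ind_real (S.F i₁).2 (h.fam_real S hj₁ hreal) with e | e
    · exact ⟨1, Or.inl rfl, by rw [BrauerInd.ind] at e; field_simp at e; push_cast; linear_combination e⟩
    · exact ⟨-1, Or.inr rfl, by rw [BrauerInd.ind] at e; field_simp at e; push_cast; linear_combination e⟩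
  have hψsq : ∀ a : A, (i₁.1 : NA A → ℂ) (inN (a * a)) = (mm A : ℂ) := by
    intro a
    subst hi₁
    rw [h.linOf_apply, Finset.sum_congr rfl (g := fun _ => (1 : ℂ)) fun x _ => by
      rw [map_mul, map_mul, ← sq, ← MonoidHom.pow_apply, hl2, MonoidHom.one_apply, Units.val_one],
      Finset.sum_const, Finset.card_univ, nsmul_eq_mul, mul_one, ← Nat.card_eq_fintype_card, h.card_NA, Nat.cast_mul,
      inv_mul_cancel_left₀ (Nat.cast_ne_zero.2 Nat.card_pos.ne')]
  have hNu : (ν : ℂ) * ((Nat.card A : ℂ) * (mm A : ℂ)) =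
      ((S.ε : ℂ) + r) * ((Nat.card A : ℂ) * (mm A : ℂ)) +
        ∑ χ ∈ Rs, (α χ : ℂ) * ∑ a : A, (χ : NA A → ℂ) (inN (a * a)) := by
    obtain ⟨gt, hgt⟩ : ∃ gt : A → ℂ, ∀ a, gt a = (S.ε : ℂ) * (i₁.1 : NA A → ℂ) (inN a) +
        ∑ χ ∈ Rs, (α χ : ℂ) * (χ : NA A → ℂ) (inN a) - r := ⟨_, fun _ => rfl⟩
    obtain ⟨D, hD⟩ : ∃ D : ℂ, D = (S.F i₁ : G → ℂ) 1 - gt 1 := ⟨_, rfl⟩
    have hF : ∀ a : A, (S.F i₁ : G → ℂ) a = gt a + if a = 1 then D else 0 := by
      intro a
      split_ifs with ha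
      · rw [ha, hD, Subgroup.coe_one]; ring
      · rw [add_zero, hgt]; exact hval i₁ a ha
    have hD' : D = (Nat.card A : ℂ) * r := by
      have h1 := hsumA i₁
      rw [Finset.sum_congr rfl fun a _ => hF a, Finset.sum_add_distrib, Finset.sum_ite_eq', if_pos (Finset.mem_univ _)] at h1
      simp only [hgt, Finset.sum_sub_distrib, Finset.sum_add_distrib, ← Finset.mul_sum,
        h.sum_A_rel i₁.1.2 (h.lin_rel i₁)] at h1
      rw [Finset.sum_comm (s := (Finset.univ : Finset A)), Finset.sum_eq_zero (s := Rs) (fun χ hχ => by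
        rw [← Finset.mul_sum, h.sum_A_rel χ.2 (Finset.mem_filter.1 hχ).2, mul_zero]), Finset.sum_const,
        Finset.card_univ, ← Nat.card_eq_fintype_card, nsmul_eq_mul, mul_zero] at h1
      linear_combination h1
    have h2 := h.sum_sq (isClassFunction (isCharacter_of_irr (S.F i₁).2))
    rw [sum_irr_eq_zero (S.F i₁).2 (fun e => hne1 i₁ (Subtype.ext e)), zero_add, Finset.sum_sub_distrib, hsumA,
      sub_zero, hνsum, h.card_G] at h2
    simp only [← Subgroup.coe_mul] at h2
    rw [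
      Finset.sum_congr rfl (s₁ := (Finset.univ : Finset A)) (g := fun a : A => gt (a * a) + if a * a = 1 then D else 0)
        fun a _ => hF (a * a)] at h2
    rw [Finset.sum_add_distrib, ← Finset.sum_filter, Finset.sum_const, nsmul_eq_mul, ← Fintype.card_subtype,
      ← Nat.card_eq_fintype_card] at h2
    have hinv : Nat.card {a : A // a * a = 1} = mm A + 1 := by
      rw [← h.card_invol]; exact Nat.card_congr (Equiv.subtypeEquivRight fun a => by rw [sq])
    rw [hinv, hD'] at h2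
    simp only [hgt, Finset.sum_sub_distrib, Finset.sum_add_distrib, hψsq] at h2
    rw [Finset.sum_comm (s := (Finset.univ : Finset A))] at h2
    simp only [← Finset.mul_sum] at h2
    rw [Finset.sum_const, Finset.sum_const, Finset.card_univ, ← Nat.card_eq_fintype_card, nsmul_eq_mul,
      nsmul_eq_mul] at h2
    push_cast at h2
    have hA1 : (Nat.card A : ℂ) + 1 ≠ 0 := Nat.cast_add_one_ne_zero _
    apply mul_left_cancel₀ hA1
    linear_combination h2
  -- all deviations vanish
  have hα0 : ∀ χ ∈ Rs, α χ = 0 := by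
    by_contra hcon
    push Not at hcon
    obtain ⟨χ₀, hχ₀, hα⟩ := hcon
    have hr₀ := (Finset.mem_filter.1 hχ₀).2
    obtain ⟨hdeg, hkpos, hkdvd, hk2, hvan⟩ := h.rel_facts χ₀ hr₀
    rcases hbound n (h.kk χ₀) hcl hk2 with hb | ⟨hv, j, hj⟩
    · exact hα ((hsmall χ₀ hr₀).1 (Or.inl hb))
    obtain ⟨L, hL0, hL⟩ := h.exists_log
    rw [hj] at hkdvd
    obtain ⟨e, -, he⟩ := (Nat.dvd_prime_pow Nat.prime_two).1 hkdvd
    have hn2 : n = mm A + 2 := by
      rw [hv] at hcl
      have : n * mm A = (mm A + 2) * mm A := by nlinarith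
      exact Nat.eq_of_mul_eq_mul_right h.mm_pos this
    have heL : e ≤ L := by
      have h1 : h.kk χ₀ ^ 2 ≤ (mm A + 1) ^ 2 := hk2.trans (hzv.trans hv.le)
      have h2 := (Nat.pow_le_pow_iff_left two_ne_zero).1 h1
      rw [he, hL] at h2
      exact (Nat.pow_le_pow_iff_right (by norm_num)).1 h2
    have heq : e = L := by
      by_contra hne
      rcases Nat.lt_or_ge (e + 1) L with hlt | hge
      · refine hα ((hsmall χ₀ hr₀).1 (Or.inl ?_))
        have h1 := Nat.pow_le_pow_right (show 0 < 2 by norm_num) (show e + 2 ≤ L by omega)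
        rw [pow_add, ← hL, ← he] at h1
        omega
      · refine hα ((hsmall χ₀ hr₀).1 (Or.inr ?_))
        obtain rfl : L = e + 1 := by omega
        rw [pow_succ, ← he] at hL
        omega
    subst heq
    have hkq : h.kk χ₀ = mm A + 1 := by rw [he, hL]
    have hαε : α χ₀ = S.ε := ((hsmall χ₀ hr₀).2 (by omega)).resolve_left hα
    have hzi : (mm A + 1) ^ 2 ≤ (Subgroup.center A).index := hkq ▸ hk2
    obtain ⟨hZ, hcardA, hZ2, hsqZ, hZC, hcent⟩ := h.special hna hv ⟨j, hj⟩ hzi
    have hvan' : ∀ a : A, a ∉ Subgroup.center A → (χ₀ : NA A → ℂ) (inN a) = 0 := by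
      refine hvan (le_antisymm hk2 ?_)
      rw [hkq]; exact hzv.trans hv.le
    have hχ₀lin : ∀ i : Lin A, i.1 ≠ χ₀ := fun i e => by
      rw [← e, h.kk_lin] at hkq; omega
    let L0 : Finset (IrrCharacter (NA A)) := Finset.univ.image fun i : Lin A => i.1
    have hL0mem : χ₀ ∉ L0 := fun hm => by
      obtain ⟨i, -, e⟩ := Finset.mem_image.1 hm
      exact hχ₀lin i e
    have hLcard : L0.card = n := by
      rw [Finset.card_image_of_injective _ Subtype.val_injective, Finset.card_univ, hn, Nat.card_eq_fintype_card]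
    have hRs : Rs = insert χ₀ L0 := by
      refine (Finset.eq_of_subset_of_card_le ?_ ?_).symm
      · intro χ hχ
        rcases Finset.mem_insert.1 hχ with rfl | hχ
        · exact hχ₀
        · obtain ⟨i, -, rfl⟩ := Finset.mem_image.1 hχ
          exact Finset.mem_filter.2 ⟨Finset.mem_univ _, h.lin_rel i⟩
      · by_contra hlt
        have hsub : insert χ₀ L0 ⊆ Rs := by
          intro χ hχ
          rcases Finset.mem_insert.1 hχ with rfl | hχ
          · exact hχ₀
          · obtain ⟨i, -, rfl⟩ := Finset.mem_image.1 hχ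
            exact Finset.mem_filter.2 ⟨Finset.mem_univ _, h.lin_rel i⟩
        obtain ⟨χ, hχ, hχn⟩ := Finset.exists_of_ssubset (hsub.ssubset_of_ne fun e => hlt (by rw [e]))
        have hid := rel_degree_identity (KA A) h.cent_KA h.KA_ne_bot (h.kk) fun χ hχ => (h.rel_facts χ hχ).1
        rw [h.card_KA, hcardA] at hid
        have hle : ∑ χ' ∈ insert χ (insert χ₀ L0), h.kk χ' ^ 2 ≤ ∑ χ' ∈ Rs, h.kk χ' ^ 2 :=
          Finset.sum_le_sum_of_subset (Finset.insert_subset hχ hsub)
        rw [Finset.sum_insert hχn, Finset.sum_insert hL0mem, hkq,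
          Finset.sum_congr rfl (s₁ := L0) (g := fun _ => 1) (fun χ' hm => by
            obtain ⟨i, -, rfl⟩ := Finset.mem_image.1 hm
            rw [h.kk_lin, one_pow]), Finset.sum_const, smul_eq_mul, mul_one, hLcard] at hle
        have hpos : 1 ≤ h.kk χ ^ 2 := Nat.one_le_pow _ _ (h.rel_facts χ (Finset.mem_filter.1 hχ).2).2.1
        have h1 : mm A * ((mm A + 1) ^ 2 + n + 1) + 1 ≤ (mm A + 1) ^ 3 := by
          calc _ ≤ mm A * (∑ χ' ∈ Rs, h.kk χ' ^ 2) + 1 := by
                have := Nat.mul_le_mul_left (mm A) (show (mm A + 1) ^ 2 + n + 1 ≤ _ from le_trans (by omega) hle)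
                omega
            _ = _ := hid
        rw [hn2] at h1
        nlinarith
    have hsplit : ∀ φ : IrrCharacter (NA A) → ℂ, ∑ χ ∈ Rs, φ χ = φ χ₀ + ∑ i : Lin A, φ i.1 := fun φ => by
      rw [hRs, Finset.sum_insert hL0mem, Finset.sum_image fun a _ b _ e => Subtype.ext e]
    have hcol : ∀ a : A, a ≠ 1 →
        ((mm A + 1 : ℕ) : ℂ) * (χ₀ : NA A → ℂ) (inN a) + ∑ i : Lin A, (i.1 : NA A → ℂ) (inN a) = -1 := by
      intro a ha
      obtain ⟨-, h2, -⟩ := degree_sums (KA A) h.cent_KA h.KA_ne_bot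
      have h3 := h2 (inN a) (Subgroup.mem_subgroupOf.2 a.2)
        (fun e => ha (Subtype.ext (congrArg (fun y : NA A => (y : G)) e :)))
      have hd : ∀ χ ∈ Rs, (charDegree (χ : NA A → ℂ) : ℂ) * (χ : NA A → ℂ) (inN a) =
          (mm A : ℂ) * ((h.kk χ : ℂ) * (χ : NA A → ℂ) (inN a)) := fun χ hχ => by
        have := (h.rel_facts χ (Finset.mem_filter.1 hχ).2).1
        rw [apply_one (isCharacter_of_irr χ.2)] at this
        rw [this]; push_cast; ring
      rw [Finset.sum_congr rfl hd, ← Finset.mul_sum, hsplit, hkq] at h3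
      simp only [h.kk_lin, Nat.cast_one, one_mul] at h3
      exact mul_left_cancel₀ hm0 (h3.trans (by ring))
    have hαsum : ∀ φ : IrrCharacter (NA A) → ℂ, ∑ χ ∈ Rs, (α χ : ℂ) * φ χ = (S.ε : ℂ) * φ χ₀ := fun φ => by
      rw [hsplit, Finset.sum_eq_zero fun i _ => by rw [hαlin i, Int.cast_zero, zero_mul], add_zero, hαε]
    -- a column off the centre forces `r = 0`
    obtain ⟨y, hy⟩ : ∃ y : A, y ∉ Subgroup.center A := by
      by_contra hc
      push Not at hc
      exact hna fun a b => (Subgroup.mem_center_iff.1 (hc a) b).symm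
    have hy1 : y ≠ 1 := fun e => hy (e ▸ one_mem _)
    have hψcol : ∑ i : Lin A, ‖(i.1 : NA A → ℂ) (inN y)‖ ^ 2 + (mm A : ℝ) = ((mm A + 1 : ℕ) : ℝ) ^ 2 := by
      have h1 := sum_normSq_col (G := NA A) (inN y)
      rw [(h.card_centralizer_G hy1).2, hcent y hy, ← Finset.sum_filter_add_sum_filter_not Finset.univ
        (fun χ : IrrCharacter (NA A) => Rel (KA A) (χ : NA A → ℂ))] at h1
      change ∑ χ ∈ Rs, _ + _ = _ at h1
      rw [hRs, Finset.sum_insert hL0mem, Finset.sum_image fun a _ b _ e => Subtype.ext e, hvan' y hy, norm_zero,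
        zero_pow two_ne_zero, zero_add] at h1
      have hnr : ∀ χ ∈ Finset.univ.filter (fun χ : IrrCharacter (NA A) => ¬ Rel (KA A) (χ : NA A → ℂ)),
          charDegree (χ : NA A → ℂ) = 1 ∧ ‖(χ : NA A → ℂ) (inN y)‖ ^ 2 = 1 := fun χ hχ => by
        have hr' := (Finset.mem_filter.1 hχ).2
        have h11 := h.nonrel_one χ.2 hr'
        refine ⟨by rw [charDegree, h11, Complex.one_re, Nat.floor_one], ?_⟩
        rw [not_rel hr' (Subgroup.mem_subgroupOf.2 y.2), h11, norm_one, one_pow]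
      obtain ⟨hT, -, -⟩ := degree_sums (KA A) h.cent_KA h.KA_ne_bot
      rw [Finset.sum_congr rfl (g := fun _ => 1) (fun χ hχ => by rw [(hnr χ hχ).1, one_pow]), Finset.sum_const,
        smul_eq_mul, mul_one] at hT
      rw [Finset.sum_congr rfl (g := fun _ => (1 : ℝ)) (fun χ hχ => (hnr χ hχ).2), Finset.sum_const, nsmul_eq_mul,
        mul_one, hT] at h1
      rw [h1]; push_cast; ring
    have hψsum : (∑ i : Lin A, (i.1 : NA A → ℂ) (inN y)).re = -1 := by
      have := hcol y hy1
      rw [hvan' y hy, mul_zero, zero_add] at this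
      rw [this]; simp
    have hFy : ∀ i, (S.F i : G → ℂ) y = (S.ε : ℂ) * (i.1 : NA A → ℂ) (inN y) - r := fun i => by
      rw [hval i y hy1, hαsum, hvan' y hy, mul_zero, add_zero]
    have hr00 : r = 0 := by
      haveI : Fintype (IrrCharacter G) := Fintype.ofFinite _
      have h1 := sum_normSq_col (G := G) (y : G)
      rw [(h.card_centralizer_G hy1).1, hcent y hy] at h1
      have h2 : ∑ χ ∈ insert (oneChar : IrrCharacter G) (Finset.univ.image S.F), ‖(χ : G → ℂ) y‖ ^ 2 ≤
          (((mm A + 1) ^ 2 : ℕ) : ℝ) := by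
        rw [← h1]
        exact Finset.sum_le_sum_of_subset_of_nonneg (Finset.subset_univ _) fun _ _ _ => by positivity
      rw [Finset.sum_insert (fun hm => by obtain ⟨i, -, e⟩ := Finset.mem_image.1 hm; exact hne1 i e),
        Finset.sum_image fun a _ b _ e => S.inj e, oneChar_apply, norm_one, one_pow] at h2
      simp only [hFy] at h2
      have h4 : ∀ w : ℂ, ‖(S.ε : ℂ) * w - r‖ ^ 2 = ‖w‖ ^ 2 - 2 * S.ε * r * w.re + (r : ℝ) ^ 2 := fun w => by
        simp only [Complex.sq_norm, Complex.normSq_apply, Complex.sub_re, Complex.sub_im, Complex.mul_re,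
          Complex.mul_im, Complex.intCast_re, Complex.intCast_im]
        rcases S.sign with e' | e' <;> rw [e'] <;> push_cast <;> ring
      simp only [h4, Finset.sum_add_distrib, Finset.sum_sub_distrib, ← Finset.mul_sum, ← Complex.re_sum, hψsum,
        Finset.sum_const, Finset.card_univ, nsmul_eq_mul] at h2
      rw [← Nat.card_eq_fintype_card, ← hn, hn2] at h2
      push_cast at h2 hψcol
      by_contra hr'
      have hr1 : (1 : ℝ) ≤ (r : ℝ) := by exact_mod_cast (show (1 : ℤ) ≤ r by omega)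
      have hε : -1 ≤ (S.ε : ℝ) := by rcases S.sign with e' | e' <;> simp [e']
      have hm3 : (3 : ℝ) ≤ (mm A : ℝ) := by exact_mod_cast h3m
      nlinarith [mul_le_mul_of_nonneg_right hε (show (0 : ℝ) ≤ r by linarith), mul_le_mul hr1 hr1 zero_le_one (by linarith)]
    -- the indicator vanishes
    have hS : ∑ a : A, (χ₀ : NA A → ℂ) (inN (a * a)) = -((Nat.card A : ℂ) * (mm A : ℂ)) := by
      have hone : (χ₀ : NA A → ℂ) (inN (1 : A)) = ((mm A : ℕ) : ℂ) * ((mm A + 1 : ℕ) : ℂ) := by
        rw [show inN (1 : A) = 1 from Subtype.ext rfl, hdeg, hkq, Nat.cast_mul]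
      have hterm : ∀ a : A, (χ₀ : NA A → ℂ) (inN (a * a)) =
          if a ∈ Subgroup.center A then ((mm A : ℕ) : ℂ) * ((mm A + 1 : ℕ) : ℂ) else -((mm A + 1 : ℕ) : ℂ) := by
        intro a
        split_ifs with ha
        · rw [← sq, hZ2 a ha, hone]
        · have ht : a * a ∈ commutator A := hZC ▸ (sq a ▸ hsqZ a)
          have ht1 : a * a ≠ 1 := fun e => ha (h.Omg_le_center (show a ^ 2 = 1 by rw [sq]; exact e))
          have := hcol _ ht1
          simp only [h.lin_commutator _ ht, Finset.sum_const, Finset.card_univ, nsmul_eq_mul] at this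
          rw [← Nat.card_eq_fintype_card, ← hn, hn2] at this
          have hq : ((mm A + 1 : ℕ) : ℂ) ≠ 0 := Nat.cast_ne_zero.2 (by omega)
          apply mul_left_cancel₀ hq
          push_cast at this ⊢
          linear_combination this
      rw [Finset.sum_congr rfl fun a _ => hterm a, Finset.sum_ite, Finset.sum_const, Finset.sum_const,
        nsmul_eq_mul, nsmul_eq_mul, hcardA]
      have c1 : (Finset.univ.filter fun a : A => a ∈ Subgroup.center A).card = mm A + 1 := by
        rw [← Fintype.card_subtype, ← Nat.card_eq_fintype_card]; exact hZ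
      have c2 := Finset.card_filter_add_card_filter_not (s := (Finset.univ : Finset A)) (fun a => a ∈ Subgroup.center A)
      rw [c1, Finset.card_univ, ← Nat.card_eq_fintype_card, hcardA] at c2
      have c2' := congrArg (Nat.cast (R := ℂ)) c2
      rw [c1]
      push_cast at c2' ⊢
      linear_combination (-((mm A : ℂ) + 1)) * c2'
    rw [hαsum, hS, hr00, Int.cast_zero, add_zero] at hNu
    have : (ν : ℂ) * ((Nat.card A : ℂ) * (mm A : ℂ)) = 0 := by rw [hNu]; ring
    rcases mul_eq_zero.1 this with h0 | h0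
    · rcases hν with e' | e' <;> simp [e'] at h0
    · exact mul_ne_zero (Nat.cast_ne_zero.2 Nat.card_pos.ne') hm0 h0
  -- the sign and the deviation
  rw [Finset.sum_eq_zero (fun χ hχ => by rw [hα0 χ hχ, Int.cast_zero, zero_mul]), add_zero] at hNu
  have hνr : ν = S.ε + r := by
    have := mul_right_cancel₀ (mul_ne_zero (Nat.cast_ne_zero.2 Nat.card_pos.ne') hm0) hNu
    exact_mod_cast this
  have hF : ∀ (i : Lin A) (a : A), a ≠ 1 → (S.F i : G → ℂ) a = (S.ε : ℂ) * (i.1 : NA A → ℂ) (inN a) - r := by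
    intro i a ha
    rw [hval i a ha, Finset.sum_eq_zero (fun χ hχ => by rw [hα0 χ hχ, Int.cast_zero, zero_mul]), add_zero]
  have hεr' : S.ε = 1 ∧ r = 0 := by
    rcases S.sign with e | e
    · exact ⟨e, by rcases hν with e' | e' <;> omega⟩
    exfalso
    have hr2 : r = 2 := by rcases hν with e' | e' <;> omega
    obtain ⟨i, -⟩ : ∃ i : Lin A, i = i₁ := ⟨i₁, rfl⟩
    have hcl2 : IsClassFunction G (fun g => ((‖(S.F i : G → ℂ) g‖ ^ 2 : ℝ) : ℂ)) := fun g y => by
      show ((‖(S.F i : G → ℂ) (y * g * y⁻¹)‖ ^ 2 : ℝ) : ℂ) = _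
      rw [isClassFunction (isCharacter_of_irr (S.F i).2) g y]
    have h1 : (∑ g : G, if h.ConjA g then ‖(S.F i : G → ℂ) g‖ ^ 2 else 0) =
        ((Nat.card A : ℝ) + 1) * ∑ a : A, if a ≠ 1 then ‖(S.F i : G → ℂ) a‖ ^ 2 else 0 := by
      have h1 := h.sum_class hcl2
      apply Complex.ofReal_injective
      simp only [Complex.ofReal_sum, Complex.ofReal_mul, Complex.ofReal_add, Complex.ofReal_natCast,
        Complex.ofReal_one, apply_ite Complex.ofReal, Complex.ofReal_zero]
      exact h1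
    have h2 : (∑ g : G, if h.ConjA g then ‖(S.F i : G → ℂ) g‖ ^ 2 else 0) ≤ (Nat.card G : ℝ) := by
      rw [← sum_normSq_irr (S.F i)]
      refine Finset.sum_le_sum fun g _ => ?_
      split_ifs <;> simp
    have hψA : ∑ a : A, ‖(i.1 : NA A → ℂ) (inN a)‖ ^ 2 = (Nat.card A : ℝ) * (mm A : ℝ) := by
      have h3 := sum_normSq_irr i.1
      rw [h.card_NA, Nat.cast_mul] at h3
      rw [← h3]
      refine Fintype.sum_of_injective (fun a : A => inN a) (fun a b e => ?_) _ _ (fun x hx => ?_) fun a => rfl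
      · exact Subtype.ext (congrArg Subtype.val e :)
      · rw [(rel_induced (KA A) h.cent_KA i.1.2 (h.lin_rel i)).1 x fun hxK => hx ⟨⟨x, hxK⟩, Subtype.ext rfl⟩,
          norm_zero, zero_pow two_ne_zero]
    have hψ0 : (∑ a : A, (i.1 : NA A → ℂ) (inN a)).re = 0 := by rw [h.sum_A_rel i.1.2 (h.lin_rel i)]; simp
    have h5 : ∑ a : A, (if a ≠ 1 then ‖(S.F i : G → ℂ) a‖ ^ 2 else 0) =
        (Nat.card A : ℝ) * (mm A : ℝ) + 4 * (Nat.card A : ℝ) - ((mm A : ℝ) + 2) ^ 2 := by
      have h6 : ∀ a : A, (if a ≠ 1 then ‖(S.F i : G → ℂ) a‖ ^ 2 else 0) =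
          ‖(i.1 : NA A → ℂ) (inN a)‖ ^ 2 + 4 * ((i.1 : NA A → ℂ) (inN a)).re + 4 -
            if a = 1 then ((mm A : ℝ) + 2) ^ 2 else 0 := by
        intro a
        by_cases ha : a = 1
        · subst ha
          rw [if_neg (fun hne => hne rfl), if_pos rfl, show inN (1 : A) = 1 from Subtype.ext rfl, i.2,
            Complex.norm_natCast, Complex.natCast_re]
          ring
        · rw [if_pos ha, if_neg ha, hF i a ha, e, hr2, Complex.sq_norm, Complex.sq_norm, Complex.normSq_apply,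
            Complex.normSq_apply]
          simp only [Complex.sub_re, Complex.sub_im, Complex.mul_re, Complex.mul_im, Complex.intCast_re,
            Complex.intCast_im]
          push_cast
          ring
      rw [Finset.sum_congr rfl fun a _ => h6 a, Finset.sum_sub_distrib, Finset.sum_add_distrib,
        Finset.sum_add_distrib, ← Finset.mul_sum, hψA, ← Complex.re_sum, hψ0, Finset.sum_ite_eq',
        if_pos (Finset.mem_univ _), Finset.sum_const, Finset.card_univ, ← Nat.card_eq_fintype_card, nsmul_eq_mul]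
      ring
    rw [h1, h5, h.card_G] at h2
    push_cast at h2
    have hN : ((mm A : ℝ) + 1) ^ 2 ≤ (Nat.card A : ℝ) := by
      have : (mm A + 1) ^ 2 ≤ Nat.card A := hq2.trans (Nat.le_of_dvd Nat.card_pos (card_abelianization_dvd A))
      exact_mod_cast this
    have hm3 : (3 : ℝ) ≤ (mm A : ℝ) := by exact_mod_cast h3m
    have h7 := le_of_mul_le_mul_left h2 (by positivity)
    nlinarith
  obtain ⟨hε1, hr00⟩ := hεr'
  -- a member trivial on the involutions
  obtain ⟨P, hP⟩ : ∃ P, P = h.Omg ⊔ commutator A := ⟨_, rfl⟩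
  have hPtop : P ≠ ⊤ := by
    intro e
    have hle : (⊤ : Subgroup A) ≤ Subgroup.center A := by
      rw [← e, hP]; exact sup_le h.Omg_le_center h.commutator_le_center
    exact hna fun a b => (Subgroup.mem_center_iff.1 (hle trivial) b).symm
  haveI hPn : P.Normal := by
    refine ⟨fun a ha g => ?_⟩
    have hc : a ∈ Subgroup.center A := by
      rw [hP] at ha
      exact sup_le h.Omg_le_center h.commutator_le_center ha
    rw [Subgroup.mem_center_iff.1 hc g, mul_inv_cancel_right]; exact ha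
  obtain ⟨l', hl'P, hl'1⟩ : ∃ l' : A →* ℂˣ, (∀ a ∈ P, l' a = 1) ∧ l' ≠ 1 := by
    haveI : IsMulCommutative (A ⧸ P) := (Subgroup.Normal.quotient_commutative_iff_commutator_le).2 (hP ▸ le_sup_right)
    letI : CommGroup (A ⧸ P) := { (inferInstance : Group (A ⧸ P)) with mul_comm := fun a b => mul_comm' a b }
    obtain ⟨a, ha⟩ := SetLike.exists_of_lt (lt_top_iff_ne_top.2 hPtop)
    obtain ⟨f, hf⟩ := CommGroup.exists_apply_ne_one_of_hasEnoughRootsOfUnity (A ⧸ P) ℂ
      (a := (a : A ⧸ P)) (fun e => ha.2 ((QuotientGroup.eq_one_iff a).1 e))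
    exact ⟨f.comp (QuotientGroup.mk' P), fun b hb => by
      rw [MonoidHom.comp_apply, QuotientGroup.mk'_apply, (QuotientGroup.eq_one_iff b).2 hb, map_one],
      fun e => hf (DFunLike.congr_fun e a)⟩
  have hPinv : h.Inv P := by
    rw [hP]
    refine h.inv_sup (fun d a (ha : a ^ 2 = 1) => ?_) h.inv_commutator
    show (h.act d a) ^ 2 = 1
    rw [← map_pow, ha, map_one]
  obtain ⟨i, hi⟩ : ∃ i, i = h.linOf l' hl'1 := ⟨_, rfl⟩
  have hχ := (S.F i).2
  have hX : (S.F i : G → ℂ) 1 = (mm A : ℂ) := by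
    have h1 := hsumA i
    rw [Finset.sum_congr rfl (g := fun a : A => (i.1 : NA A → ℂ) (inN a) +
      if a = 1 then (S.F i : G → ℂ) 1 - (mm A : ℂ) else 0) (fun a _ => by
        split_ifs with ha
        · rw [ha, Subgroup.coe_one, show inN (1 : A) = 1 from Subtype.ext rfl, i.2]; ring
        · rw [hF i a ha, hε1, hr00]; push_cast; ring), Finset.sum_add_distrib, h.sum_A_rel i.1.2 (h.lin_rel i),
      Finset.sum_ite_eq', if_pos (Finset.mem_univ _), zero_add] at h1
    linear_combination h1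
  obtain ⟨R, hRdef⟩ : ∃ R, R = charKer (S.F i : G → ℂ) (isCharacter_of_irr hχ) := ⟨_, rfl⟩
  haveI hRn : R.Normal := hRdef ▸ charKer_normal _
  have hRP : ∀ a ∈ P, (a : G) ∈ R := by
    intro a ha
    rw [hRdef, mem_charKer]
    rcases eq_or_ne a 1 with rfl | ha1
    · rfl
    rw [hF i a ha1, hε1, hr00, hX, hi, h.linOf_const l' hl'1 hPinv hl'P ha]
    push_cast; ring
  have hinvR : ∀ t : G, orderOf t = 2 → t ∈ R := by
    intro t ht
    obtain ⟨g, rfl⟩ := _root_.isConj_iff.1 (h.isConj_iff.2 ht)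
    refine hRn.conj_mem z (hRP ⟨z, h.hzA⟩ (hP ▸ Subgroup.mem_sup_left ?_)) g
    show (⟨z, h.hzA⟩ : A) ^ 2 = 1
    exact Subtype.ext (h.hz ▸ pow_orderOf_eq_one z :)
  obtain ⟨π, hπ⟩ : ∃ π : G →* G ⧸ R, π = QuotientGroup.mk' R := ⟨_, rfl⟩
  have hsurj : ∀ g : G, ∃ a : A, π a = π g := by
    have hM : ∀ x ∈ NA A, ∃ a : A, π a = π x := by
      intro x hx
      obtain ⟨w, hw, hwM⟩ := h.exists_outside
      obtain ⟨d, hd, hdx⟩ := h.exists_decomp hw hwM hx
      refine ⟨⟨_, hdx⟩, ?_⟩
      have hdR : d ∈ R := by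
        rcases eq_or_ne d 1 with rfl | hd1
        · exact one_mem _
        have e1 : (w * d) * (w * d) = 1 := by
          rw [← mul_assoc (w * d) w d, (h.DD_spec hw hwM).2 d hd, inv_mul_cancel]
        have hwd : orderOf (w * d) = 2 := orderOf_eq_prime (by rw [sq, e1]) fun e => hwM (by
          rw [mul_eq_one_iff_eq_inv] at e
          exact e ▸ (NA A).inv_mem hd.1)
        have := R.mul_mem (R.inv_mem (hinvR w hw)) (hinvR _ hwd)
        rwa [inv_mul_cancel_left] at this
      subst hπ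
      show ((d⁻¹ * x : G) : G ⧸ R) = (x : G ⧸ R)
      rw [QuotientGroup.mk_mul, (QuotientGroup.eq_one_iff _).2 (R.inv_mem hdR), one_mul]
    intro g
    by_cases hg : g ∈ NA A
    · exact hM g hg
    obtain ⟨v, hv, hvg, -⟩ := h.exists_inv_coset hg
    obtain ⟨a, ha⟩ := hM _ hvg
    refine ⟨a⁻¹, ?_⟩
    subst hπ
    have hvR : ((v : G) : G ⧸ R) = 1 := (QuotientGroup.eq_one_iff v).2 (hinvR v hv)
    change ((a : G) : G ⧸ R) = ((g⁻¹ * v : G) : G ⧸ R) at ha
    show (((a⁻¹ : A) : G) : G ⧸ R) = (g : G ⧸ R)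
    rw [Subgroup.coe_inv, QuotientGroup.mk_inv, ha, QuotientGroup.mk_mul, hvR, mul_one, QuotientGroup.mk_inv, inv_inv]
  have hcomm : ∀ x y : G, (S.F i : G → ℂ) (x * y * x⁻¹ * y⁻¹) = (S.F i : G → ℂ) 1 := by
    intro x y
    rw [← mem_charKer (isCharacter_of_irr hχ), ← hRdef, ← QuotientGroup.eq_one_iff]
    obtain ⟨a, ha⟩ := hsurj x
    obtain ⟨b, hb⟩ := hsurj y
    subst hπ
    show QuotientGroup.mk' R (x * y * x⁻¹ * y⁻¹) = 1
    rw [map_mul, map_mul, map_mul, map_inv, map_inv, ← ha, ← hb, ← map_inv, ← map_inv, ← map_mul, ← map_mul,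
      ← map_mul]
    exact (QuotientGroup.eq_one_iff _).2 (hRP ⁅a, b⁆ (hP ▸ Subgroup.mem_sup_right
      (by rw [commutator_def]; exact Subgroup.commutator_mem_commutator trivial trivial)))
  have hdeg1 := Cfsg.Agent.S0859.degree_one_of_ker_comm hχ hcomm
  rw [hX, Nat.cast_eq_one] at hdeg1
  exact h.one_lt_mm.ne' hdeg1

end Hyp

end CfsgLib.TICent
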