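import Cfsg.Agent.CA.TICent.Reduce
import Cfsg.Agent.CA.TICent.Final
import Cfsg.Agent.CA.EvenTI
import Cfsg.Agent.S1230
import Mathlib.FieldTheory.Finite.GaloisField

/-!
# Groups all of whose element centralisers are TI
-/

set_option autoImplicit false
set_option linter.style.haveILetI false
set_option linter.unusedSectionVars false

namespace CfsgLib.TICent

universe u

variable {G : Type u} [Group G] [Finite G]

/-- Projective special linear groups over isomorphic fields. -/
theorem psl_congr {F K : Type} [Field F] [Field K] (e : F ≃+* K) :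
    Nonempty (Matrix.ProjectiveSpecialLinearGroup (Fin 2) F ≃* Matrix.ProjectiveSpecialLinearGroup (Fin 2) K) := by
  let φ : Matrix.SpecialLinearGroup (Fin 2) F ≃* Matrix.SpecialLinearGroup (Fin 2) K :=
    MonoidHom.toMulEquiv (Matrix.SpecialLinearGroup.map e.toRingHom) (Matrix.SpecialLinearGroup.map e.symm.toRingHom)
      (by ext g i j; simp) (by ext g i j; simp)
  refine ⟨QuotientGroup.congr _ _ φ ?_⟩
  ext y
  constructor
  · rintro ⟨x, hx, rfl⟩
    refine Subgroup.mem_center_iff.2 fun g => ?_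
    obtain ⟨g', rfl⟩ := φ.surjective g
    show φ g' * φ x = φ x * φ g'
    rw [← map_mul, ← map_mul, Subgroup.mem_center_iff.1 hx g']
  · intro hy
    refine ⟨φ.symm y, Subgroup.mem_center_iff.2 fun g => φ.injective ?_, φ.apply_symm_apply y⟩
    rw [map_mul, map_mul, φ.apply_symm_apply, Subgroup.mem_center_iff.1 hy]

/-- The kernel is elementary abelian. -/
theorem Hyp.elementary {A : Subgroup G} {z : G} (h : Hyp A z) :
    (∀ a ∈ A, ∀ b ∈ A, Commute a b) ∧ ∀ a ∈ A, a ^ 2 = 1 := by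
  haveI : Fintype G := Fintype.ofFinite G
  have hab : ∀ a ∈ A, ∀ b ∈ A, Commute a b := fun a ha b hb =>
    congrArg Subtype.val (h.kernel_comm ⟨a, ha⟩ ⟨b, hb⟩).eq
  refine ⟨hab, CA.sq_eq_one_of_hyp (A := A) ⟨fun g hg k hk hgk => ?_, h.lt, h.cent, fun a ha b hb => (hab a ha b hb).eq⟩
    h.hzA h.hz h.ne_top (fun x => h.isConj_iff) fun x hx hxN => (h.zcent x hx hxN).1⟩
  by_contra hk1
  exact hg (h.ti g k hk hk1 hgk)

theorem main (hTI : AllTI G) :
    Group.IsNilpotent G ∨
    (∃ H : Subgroup G, Cfsg.IsFrobeniusComplement H ∧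
      (IsCyclic H ∨ ∃ m : ℕ, Odd m ∧ Nonempty (H ≃* Multiplicative (ZMod m) × QuaternionGroup 2))) ∨
    (∃ n : ℕ, 2 ≤ n ∧ Nonempty (G ≃* Matrix.ProjectiveSpecialLinearGroup (Fin 2) (GaloisField 2 n))) := by
  by_cases hnn : Group.IsNilpotent G
  · exact Or.inl hnn
  right
  have hCN := isCNGroup hTI
  by_cases hpc : ∃ p : ℕ, p.Prime ∧ Cfsg.pCore p G ≠ ⊥
  · obtain ⟨p, hp, hp'⟩ := hpc
    exact Or.inl (frobenius_case hTI hCN hnn hp hp')
  right
  push Not at hpc
  haveI : Fact (Nat.Prime 2) := ⟨Nat.prime_two⟩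
  obtain ⟨T, A, z, h, hTA, hncyc, hTn⟩ := exists_hyp hTI hCN hnn hpc
  obtain ⟨hab, hsq⟩ := h.elementary
  obtain ⟨F, _, _, hcard, ⟨e⟩⟩ := Cfsg.Agent.S1230.result T hncyc hTn fun t ht => by
    obtain ⟨g, rfl⟩ := isConj_iff.1 (h.isConj_iff.2 ht)
    have hmem : ∀ c ∈ Subgroup.centralizer ({g * z * g⁻¹} : Set G), g⁻¹ * c * g ∈ A := by
      intro c hc
      rw [← h.centralizer_z, Subgroup.mem_centralizer_singleton_iff]
      rw [Subgroup.mem_centralizer_singleton_iff] at hc
      calc g⁻¹ * c * g * z = g⁻¹ * (c * (g * z * g⁻¹)) * g := by group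
        _ = _ := by rw [hc]; group
    refine ⟨⟨⟨fun a b => Subtype.ext ?_⟩⟩, fun c hc => ?_⟩
    · have := ((hab _ (hmem _ a.2) _ (hmem _ b.2)).map (MulAut.conj g).toMonoidHom).eq
      simpa [mul_assoc] using this
    · have h1 := congrArg (MulAut.conj g).toMonoidHom (hsq _ (hmem c hc))
      simpa [mul_assoc, sq] using h1
  obtain ⟨n, hn⟩ := T.isPGroup'.exists_card_eq
  have h2 : 2 ≤ n := by
    by_contra hn'
    refine hncyc ?_
    rcases (show n = 0 ∨ n = 1 by omega) with rfl | rfl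
    · haveI : Subsingleton (T : Subgroup G) := (Nat.card_eq_one_iff_unique.1 (by rw [hn, pow_zero])).1
      infer_instance
    · exact isCyclic_of_prime_card (p := 2) (by rw [hn, pow_one])
  refine ⟨n, h2, ?_⟩
  have hcardF : Nat.card F = Nat.card (GaloisField 2 n) := by
    rw [GaloisField.card 2 n (by omega), Nat.card_eq_fintype_card, hcard, ← hn]
  haveI : Fintype (GaloisField 2 n) := Fintype.ofFinite _
  obtain ⟨e'⟩ := psl_congr (FiniteField.ringEquivOfCardEq (K := F) (K' := GaloisField 2 n) (by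
    rw [← Nat.card_eq_fintype_card, hcardF, Nat.card_eq_fintype_card]))
  exact ⟨e.trans e'⟩

end CfsgLib.TICent
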