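import Cfsg.Agent.CA.TICent.Local
import Cfsg.Agent.CN.Solvable
import Cfsg.Agent.Hall.StructBatch2
import Cfsg.Agent.PCore.Basic
import Cfsg.Agent.S0183
import Cfsg.Agent.S0201
import Cfsg.Agent.S1474
import Cfsg.Agent.S4066

/-!
# Groups with TI element centralisers: nilpotent, Frobenius, or the configuration with a TI centraliser
-/

set_option autoImplicit false
set_option linter.style.haveILetI false
set_option linter.unusedSectionVars false

namespace CfsgLib.TICent

open CfsgLib.Invol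
open scoped Pointwise

universe u

variable {G : Type u} [Group G] [Finite G]

/-- All element centralisers are TI. -/
abbrev AllTI (G : Type u) [Group G] : Prop :=
  ∀ x : G, Cfsg.IsTISubset (Subgroup.centralizer ({x} : Set G) : Set G)

theorem AllTI.mem_normalizer {x a g : G} (hTI : AllTI G) (ha : a ∈ Subgroup.centralizer ({x} : Set G))
    (ha1 : a ≠ 1) (hg : g * a * g⁻¹ ∈ Subgroup.centralizer ({x} : Set G)) :
    g ∈ Subgroup.normalizer (Subgroup.centralizer ({x} : Set G) : Set G) := by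
  by_contra h
  exact ha1 (hTI x g h a ha hg)

theorem AllTI.subgroup (hTI : AllTI G) (K : Subgroup G) : AllTI K := by
  intro x g hg a ha hga
  by_contra ha1
  apply hg
  have hmem : ∀ y : K, y ∈ Subgroup.centralizer ({x} : Set K) ↔ (y : G) ∈ Subgroup.centralizer ({(x : G)} : Set G) :=
    fun y => by
      rw [Subgroup.mem_centralizer_singleton_iff, Subgroup.mem_centralizer_singleton_iff, Subtype.ext_iff]; rfl
  have hN := hTI.mem_normalizer ((hmem a).1 ha) (fun e => ha1 (Subtype.ext e)) (a := (a : G)) (g := (g : G))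
    (by have := (hmem _).1 hga; simpa using this)
  refine Subgroup.mem_normalizer_iff.2 fun y => ?_
  rw [hmem, hmem]
  simpa using Subgroup.mem_normalizer_iff.1 hN (y : G)

/-- With a nontrivial centre every element commutes with its conjugates. -/
theorem commute_conj_of_center (hTI : AllTI G) (hZ : Subgroup.center G ≠ ⊥) (x g : G) :
    Commute (g * x * g⁻¹) x := by
  obtain ⟨⟨z, hz⟩, hz1⟩ := Subgroup.ne_bot_iff_exists_ne_one.1 hZ
  have hzx : z ∈ Subgroup.centralizer ({x} : Set G) :=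
    Subgroup.mem_centralizer_singleton_iff.2 (Subgroup.mem_center_iff.1 hz x).symm
  have hg := hTI.mem_normalizer hzx (fun e => hz1 (Subtype.ext e)) (g := g) (by
    rw [Subgroup.mem_center_iff.1 hz g, mul_inv_cancel_right]; exact hzx)
  exact (Subgroup.mem_centralizer_singleton_iff.1
    ((Subgroup.mem_normalizer_iff.1 hg x).1 (Subgroup.mem_centralizer_singleton_iff.2 rfl)))

/-- With a nontrivial centre the group is nilpotent. -/
theorem isNilpotent_of_center (hTI : AllTI G) (hZ : Subgroup.center G ≠ ⊥) : Group.IsNilpotent G := by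
  refine ((Group.isNilpotent_of_finite_tfae (G := G)).out 0 3).2 fun p hpf P => ?_
  haveI := hpf
  have hle : (P : Subgroup G) ≤ Cfsg.pCore p G := by
    intro x hx
    obtain ⟨k, hk⟩ := IsPGroup.iff_orderOf.1 P.isPGroup' ⟨x, hx⟩
    rw [Subgroup.orderOf_mk] at hk
    set K := Subgroup.normalClosure ({x} : Set G) with hK
    have hconj : ∀ y ∈ Group.conjugatesOfSet ({x} : Set G), ∃ g, g * x * g⁻¹ = y := fun y hy => by
      obtain ⟨x', hx', hy'⟩ := Group.mem_conjugatesOfSet_iff.1 hy
      rw [Set.mem_singleton_iff] at hx'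
      subst hx'
      exact isConj_iff.1 hy'
    have hcomm : ∀ a ∈ K, ∀ b ∈ K, Commute a b := by
      have h1 : K ≤ Subgroup.centralizer (Group.conjugatesOfSet ({x} : Set G)) := by
        rw [hK, Subgroup.normalClosure, Subgroup.closure_le]
        intro a ha
        refine Subgroup.mem_centralizer_iff.2 fun b hb => ?_
        obtain ⟨g, rfl⟩ := hconj a ha
        obtain ⟨g', rfl⟩ := hconj b hb
        have := (commute_conj_of_center hTI hZ x (g⁻¹ * g')).map (MulAut.conj g).toMonoidHom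
        simpa [mul_assoc] using this.eq
      have h2 : K ≤ Subgroup.centralizer (K : Set G) := by
        rw [hK, Subgroup.normalClosure, Subgroup.closure_le]
        intro a ha
        refine Subgroup.mem_centralizer_iff.2 fun b hb => ?_
        exact (Subgroup.mem_centralizer_iff.1 (h1 hb) a ha).symm
      exact fun a ha b hb => (Subgroup.mem_centralizer_iff.1 (h2 hb) a ha)
    have hp : ∀ y ∈ K, y ^ p ^ k = 1 := by
      intro y hy
      refine Subgroup.closure_induction (p := fun y _ => y ^ p ^ k = 1) ?_ (one_pow _) ?_ ?_ hy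
      · intro y hy
        obtain ⟨g, rfl⟩ := hconj y hy
        rw [conj_pow, ← hk, pow_orderOf_eq_one, mul_one, mul_inv_cancel]
      · intro a b ha hb e1 e2
        rw [(hcomm a ha b hb).mul_pow, e1, e2, mul_one]
      · intro a _ e1
        rw [inv_pow, e1, inv_one]
    have hKp : IsPGroup p K := fun y => ⟨k, Subtype.ext (by simpa using hp y.1 y.2)⟩
    exact CfsgLib.PCore.le_pCore Subgroup.normalClosure_normal hKp (Subgroup.subset_normalClosure rfl)
  rw [le_antisymm hle (CfsgLib.PCore.pCore_le_sylow P)]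
  haveI := CfsgLib.PCore.pCore_characteristic p G
  infer_instance

/-- With a trivial centre the group is a CN group. -/
theorem isCNGroup (hTI : AllTI G) : Cfsg.IsCNGroup G := fun x hx =>
  isNilpotent_of_center (hTI.subgroup _) (by
    intro hbot
    have hxm : x ∈ Subgroup.centralizer ({x} : Set G) := Subgroup.mem_centralizer_singleton_iff.2 rfl
    have : (⟨x, hxm⟩ : Subgroup.centralizer ({x} : Set G)) ∈ Subgroup.center _ := by
      rw [Subgroup.mem_center_iff]
      exact fun y => Subtype.ext (Subgroup.mem_centralizer_singleton_iff.1 y.2)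
    rw [hbot, Subgroup.mem_bot] at this
    exact hx (congrArg Subtype.val this))

/-- A nontrivial normal solvable subgroup gives a nontrivial `p`-core. -/
theorem exists_pCore_ne_bot : ∀ (n : ℕ) (N : Subgroup G), Nat.card N = n → N.Normal → N ≠ ⊥ →
    Group.IsSolvable N → ∃ p : ℕ, p.Prime ∧ Cfsg.pCore p G ≠ ⊥ := by
  intro n
  induction n using Nat.strong_induction_on with
  | h n ih =>
    intro N hn hN hne hs
    haveI := hN
    haveI := hs
    haveI : Nontrivial N := (Subgroup.nontrivial_iff_ne_bot _).2 hne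
    by_cases hc : ⁅N, N⁆ = ⊥
    · obtain ⟨p, hp, hpd⟩ := Nat.exists_prime_and_dvd (show Nat.card N ≠ 1 from Finite.one_lt_card.ne')
      haveI := Fact.mk hp
      refine ⟨p, hp, ?_⟩
      have hcm : ∀ a ∈ N, ∀ b ∈ N, Commute a b := fun a ha b hb =>
        commutatorElement_eq_one_iff_commute.1 (Subgroup.mem_bot.1 (hc ▸ Subgroup.commutator_mem_commutator ha hb))
      let N' : Subgroup G :=
        { carrier := {y | y ∈ N ∧ ∃ k, y ^ p ^ k = 1}
          one_mem' := ⟨N.one_mem, 0, one_pow _⟩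
          mul_mem' := by
            rintro a b ⟨ha, i, hi⟩ ⟨hb, j, hj⟩
            refine ⟨N.mul_mem ha hb, i + j, ?_⟩
            rw [(hcm a ha b hb).mul_pow, pow_add, pow_mul, hi, one_pow, one_mul, mul_comm, pow_mul, hj, one_pow]
          inv_mem' := by
            rintro a ⟨ha, i, hi⟩
            exact ⟨N.inv_mem ha, i, by rw [inv_pow, hi, inv_one]⟩ }
      have hN' : N'.Normal := ⟨fun a ha g => ⟨hN.conj_mem a ha.1 g, ha.2.imp fun k hk => by
        rw [conj_pow, hk, mul_one, mul_inv_cancel]⟩⟩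
      have hp' : IsPGroup p N' := fun y => y.2.2.imp fun k hk => Subtype.ext (by simpa using hk)
      obtain ⟨⟨y, hyN⟩, hy⟩ := exists_prime_orderOf_dvd_card' (G := N) p hpd
      rw [Subgroup.orderOf_mk] at hy
      intro hbot
      have hyc := CfsgLib.PCore.le_pCore hN' hp' (show y ∈ N' from
        ⟨hyN, 1, by rw [pow_one, ← hy, pow_orderOf_eq_one]⟩)
      rw [hbot, Subgroup.mem_bot] at hyc
      rw [hyc, orderOf_one] at hy
      exact hp.ne_one hy.symm
    · have hlt : ⁅N, N⁆ < N := by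
        rw [← Subgroup.map_subtype_commutator N]
        conv_rhs => rw [← Subgroup.range_subtype N, MonoidHom.range_eq_map]
        refine lt_of_le_of_ne (Subgroup.map_mono le_top) fun e => ?_
        exact (Group.IsSolvable.commutator_lt_top_of_nontrivial N).ne
          (Subgroup.map_injective N.subtype_injective e)
      refine ih _ ?_ ⁅N, N⁆ rfl inferInstance hc ?_
      · rw [← hn]
        exact lt_of_le_of_ne (Subgroup.card_le_of_le hlt.le)
          fun e => hlt.ne (Subgroup.eq_of_le_of_card_ge hlt.le e.ge)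
      · exact Group.isSolvable_of_isSolvable_injective (f := Subgroup.inclusion hlt.le) (Subgroup.inclusion_injective _)

/-- The complement of the Frobenius case. -/
theorem frobenius_case (hTI : AllTI G) (hCN : Cfsg.IsCNGroup G) (hnn : ¬ Group.IsNilpotent G)
    {p : ℕ} (hp : p.Prime) (hpc : Cfsg.pCore p G ≠ ⊥) :
    ∃ H : Subgroup G, Cfsg.IsFrobeniusComplement H ∧
      (IsCyclic H ∨ ∃ m : ℕ, Odd m ∧ Nonempty (H ≃* Multiplicative (ZMod m) × QuaternionGroup 2)) := by
  haveI := Fact.mk hp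
  obtain ⟨P⟩ : Nonempty (Sylow p G) := inferInstance
  have hall : ∀ Q : Sylow p G, Q = P := fun Q => by
    by_contra hne
    exact hpc (le_bot_iff.1 ((le_inf (CfsgLib.PCore.pCore_le_sylow Q) (CfsgLib.PCore.pCore_le_sylow P)).trans
      (Cfsg.Agent.S4066.result hTI Q P hne).le))
  haveI : Subsingleton (Sylow p G) := ⟨fun Q R => (hall Q).trans (hall R).symm⟩
  have hPn : (P : Subgroup G).Normal := inferInstance
  have hP1 : (P : Subgroup G) ≠ ⊥ := fun e => hpc (le_bot_iff.1 ((CfsgLib.PCore.pCore_le_sylow P).trans e.le))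
  obtain ⟨hH0, hH1, ⟨E, hE, hEF, hfix⟩, hnil⟩ := Cfsg.Agent.S1474.result hCN hnn p P hP1 hPn
  haveI : (Cfsg.fittingHall G).Normal := by
    refine ⟨fun n hn g => ?_⟩
    have hmap : (Cfsg.fittingHall G).map (MulAut.conj g).toMonoidHom ≤ Cfsg.fittingHall G := by
      rw [Cfsg.fittingHall, Subgroup.map_le_iff_le_comap]
      refine sSup_le fun N hN => ?_
      intro a ha
      rw [Subgroup.mem_comap]
      exact le_sSup hN (hN.1.conj_mem a ha g)
    exact hmap ⟨n, hn, rfl⟩
  refine ⟨E, hEF, ?_⟩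
  have hfpf := CfsgLib.CN.latFpf_of_fix hH0 hEF.1 (disjoint_iff.1 hE.disjoint) hfix
  haveI hEnil : Group.IsNilpotent ↥E := CfsgLib.CN.isNilpotent_of_fix hCN hfpf
  haveI : Nontrivial ↥E := (Subgroup.nontrivial_iff_ne_bot _).2 hEF.1
  have hconjE := commute_conj_of_center (hTI.subgroup E) (Group.IsNilpotent.center_ne_bot _)
  rcases CfsgLib.CN.structure_of_latFpf hfpf with hc | ⟨C, Q, hsup, hcom, hCc, hCodd, n, ⟨e⟩⟩
  · exact Or.inl hc
  have hCE : C ≤ E := hsup ▸ le_sup_left
  have hQE : Q ≤ E := hsup ▸ le_sup_right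
  let φ : C × Q →* E := MonoidHom.noncommCoprod (Subgroup.inclusion hCE) (Subgroup.inclusion hQE)
    fun a b => Subtype.ext (hcom a a.2 b b.2)
  have hφ : Function.Bijective φ := by
    constructor
    · refine (MonoidHom.noncommCoprod_injective _ _ _).2 ⟨Subgroup.inclusion_injective _, Subgroup.inclusion_injective _, ?_⟩
      rw [disjoint_iff, eq_bot_iff]
      rintro _ ⟨⟨a, rfl⟩, b, hb⟩
      rw [Subgroup.mem_bot]
      have hab : (b : G) = a := congrArg Subtype.val hb
      have ho : orderOf (a : G) = 1 := by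
        refine Nat.eq_one_of_dvd_coprimes (a := Nat.card C) (b := Nat.card Q) ?_ ?_ ?_
        · rw [Nat.card_congr e.toEquiv, Nat.card_eq_fintype_card (α := QuaternionGroup (2 ^ n)), QuaternionGroup.card,
            show (4 : ℕ) * 2 ^ n = 2 ^ (n + 2) by rw [pow_add]; ring]
          exact (Nat.coprime_two_right.2 hCodd).pow_right _
        · rw [Subgroup.orderOf_coe]; exact orderOf_dvd_natCard _
        · rw [← hab, Subgroup.orderOf_coe]; exact orderOf_dvd_natCard _
      exact Subtype.ext (orderOf_eq_one_iff.1 ho)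
    · intro x
      have hle : E ≤ φ.range.map E.subtype := by
        refine hsup.symm.le.trans (sup_le (fun c hc => ?_) fun d hd => ?_)
        · exact ⟨⟨c, hCE hc⟩, ⟨(⟨c, hc⟩, 1), Subtype.ext (show c * (1 : G) = c from mul_one c)⟩, rfl⟩
        · exact ⟨⟨d, hQE hd⟩, ⟨(1, ⟨d, hd⟩), Subtype.ext (show (1 : G) * d = d from one_mul d)⟩, rfl⟩
      obtain ⟨y, ⟨u, hu⟩, hy⟩ := hle x.2
      exact ⟨u, hu.trans (Subtype.ext hy)⟩
  haveI := hCc
  -- the quaternion part has order at most eight
  have hn : n ≤ 1 := by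
    by_contra hn
    obtain ⟨u, hu⟩ : ∃ u : E, u = ⟨((e.symm (QuaternionGroup.xa 0) : Q) : G), hQE (e.symm (QuaternionGroup.xa 0)).2⟩ := ⟨_, rfl⟩
    obtain ⟨g, hg⟩ : ∃ g : E, g = ⟨((e.symm (QuaternionGroup.a 1) : Q) : G), hQE (e.symm (QuaternionGroup.a 1)).2⟩ := ⟨_, rfl⟩
    have hc := hconjE u g
    subst hu hg
    have hc' : Commute (QuaternionGroup.a 1 * QuaternionGroup.xa 0 * (QuaternionGroup.a 1)⁻¹)
        (QuaternionGroup.xa (0 : ZMod (2 * 2 ^ n))) := by
      have h1 : Commute (e.symm (QuaternionGroup.a 1) * e.symm (QuaternionGroup.xa 0) *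
          (e.symm (QuaternionGroup.a 1))⁻¹) (e.symm (QuaternionGroup.xa 0)) :=
        Subtype.ext (congrArg Subtype.val hc.eq : _)
      simpa using h1.map e.toMonoidHom
    have h2 := hc'.eq
    have hinv : (QuaternionGroup.a (1 : ZMod (2 * 2 ^ n)))⁻¹ = QuaternionGroup.a (-1) := rfl
    rw [hinv, QuaternionGroup.a_mul_xa, QuaternionGroup.xa_mul_a, QuaternionGroup.xa_mul_xa,
      QuaternionGroup.xa_mul_xa] at h2
    have h3 := QuaternionGroup.a.inj h2
    have h4 : ((4 : ℕ) : ZMod (2 * 2 ^ n)) = 0 := by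
      have := sub_eq_zero.2 h3
      push_cast at this ⊢
      linear_combination this
    rw [ZMod.natCast_eq_zero_iff] at h4
    have : 8 ≤ 2 * 2 ^ n := by
      have := Nat.pow_le_pow_right (show 0 < 2 by norm_num) (show 2 ≤ n by omega)
      omega
    have := Nat.le_of_dvd (by norm_num) h4
    omega
  rcases Nat.le_one_iff_eq_zero_or_eq_one.1 hn with rfl | rfl
  · left
    haveI : IsCyclic (QuaternionGroup (2 ^ 0)) := QuaternionGroup.quaternionGroup_one_isCyclic
    haveI : IsCyclic Q := isCyclic_of_surjective _ e.symm.surjective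
    obtain ⟨a, ha⟩ := IsCyclic.exists_ofOrder_eq_natCard (α := C)
    obtain ⟨b, hb⟩ := IsCyclic.exists_ofOrder_eq_natCard (α := Q)
    haveI : IsCyclic (C × Q) := isCyclic_of_orderOf_eq_card (a, b) (by
      rw [Prod.orderOf, ha, hb, Nat.card_prod]
      refine Nat.Coprime.lcm_eq_mul ?_
      rw [Nat.card_congr e.toEquiv, Nat.card_eq_fintype_card (α := QuaternionGroup (2 ^ 0)), QuaternionGroup.card]
      exact (Nat.coprime_two_right.2 hCodd).pow_right 2)
    exact isCyclic_of_surjective φ hφ.2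
  · right
    exact ⟨Nat.card C, hCodd, ⟨((MulEquiv.ofBijective φ hφ).symm).trans
      ((zmodCyclicMulEquiv hCc).symm.prodCongr (e.trans (by rw [pow_one])))⟩⟩

/-- Without cores the configuration arises. -/
theorem exists_hyp (hTI : AllTI G) (hCN : Cfsg.IsCNGroup G) (hnn : ¬ Group.IsNilpotent G)
    (hpc : ∀ p : ℕ, p.Prime → Cfsg.pCore p G = ⊥) :
    ∃ (T : Sylow 2 G) (A : Subgroup G) (z : G), Hyp A z ∧ (T : Subgroup G) ≤ A ∧
      ¬ IsCyclic (T : Subgroup G) ∧ ¬ (T : Subgroup G).Normal := by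
  haveI : Fact (Nat.Prime 2) := ⟨Nat.prime_two⟩
  haveI : Nontrivial G := by
    by_contra h
    rw [not_nontrivial_iff_subsingleton] at h
    exact hnn inferInstance
  have hnsol : ∀ N : Subgroup G, N.Normal → N ≠ ⊥ → ¬ Group.IsSolvable N := fun N hN hne hs => by
    obtain ⟨p, hp, hp'⟩ := exists_pCore_ne_bot _ N rfl hN hne hs
    exact hp' (hpc p hp)
  have hodd : ∀ N : Subgroup G, N.Normal → Odd (Nat.card N) → N = ⊥ := fun N hN ho => by
    by_contra hne
    refine hnsol N hN hne (Cfsg.Agent.S0183.result ho fun x hx => ?_)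
    haveI := hCN (x : G) fun e => hx (Subtype.ext e)
    let f : ↥(Subgroup.centralizer ({x} : Set N)) →* ↥(Subgroup.centralizer ({(x : G)} : Set G)) :=
      MonoidHom.codRestrict (N.subtype.comp (Subgroup.centralizer ({x} : Set N)).subtype) _ fun y =>
        Subgroup.mem_centralizer_singleton_iff.2 (congrArg Subtype.val (Subgroup.mem_centralizer_singleton_iff.1 y.2))
    exact Group.nilpotent_of_mulEquiv (MonoidHom.ofInjective (f := f) (fun a b e => Subtype.ext (Subtype.ext
      (congrArg (fun v : ↥(Subgroup.centralizer ({(x : G)} : Set G)) => (v : G)) e)))).symm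
  have heven : 2 ∣ Nat.card G := by
    by_contra h2
    exact (top_ne_bot : (⊤ : Subgroup G) ≠ ⊥) (hodd ⊤ inferInstance (by
      rw [Subgroup.card_top]; exact Nat.odd_iff.2 (Nat.two_dvd_ne_zero.1 h2)))
  obtain ⟨T⟩ : Nonempty (Sylow 2 G) := inferInstance
  have hT1 : (T : Subgroup G) ≠ ⊥ := T.ne_bot_of_dvd_card heven
  have hTn : ¬ (T : Subgroup G).Normal := fun hn =>
    hT1 (le_bot_iff.1 ((CfsgLib.PCore.le_pCore hn T.isPGroup').trans (hpc 2 Nat.prime_two).le))
  have hncyc : ¬ IsCyclic (T : Subgroup G) := by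
    intro hc
    have hmin : (Nat.card G).minFac = 2 := (Nat.minFac_eq_two_iff _).2 heven
    have hK := IsCyclic.isComplement' hmin hc
    obtain ⟨K, hK', hKn⟩ : ∃ K : Subgroup G, K.IsComplement' (T : Subgroup G) ∧ K.Normal :=
      ⟨_, hK, MonoidHom.normal_ker _⟩
    clear hK
    have hKodd := hodd K hKn (by
      rw [← hK'.index_eq_card]
      exact Nat.odd_iff.2 (Nat.two_dvd_ne_zero.1 T.not_dvd_index))
    rw [hKodd] at hK'
    exact hTn (by rw [Subgroup.isComplement'_bot_left.1 hK']; infer_instance)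
  -- two involutions
  obtain ⟨t₁, t₂, ht₁T, ht₂T, ht₁, ht₂, ht12⟩ : ∃ t₁ t₂ : G, t₁ ∈ T ∧ t₂ ∈ T ∧ orderOf t₁ = 2 ∧ orderOf t₂ = 2 ∧ t₁ ≠ t₂ := by
    by_contra hcon
    push Not at hcon
    have hu : ∀ H K : Subgroup (T : Subgroup G), Nat.card H = 2 → Nat.card K = 2 → H = K := by
      intro H K hH hK
      obtain ⟨s, hs⟩ := exists_prime_orderOf_dvd_card' (G := H) 2 (by rw [hH])
      obtain ⟨s', hs'⟩ := exists_prime_orderOf_dvd_card' (G := K) 2 (by rw [hK])
      rw [← Subgroup.orderOf_coe] at hs hs'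
      have hH' : Subgroup.zpowers (s : (T : Subgroup G)) = H :=
        Subgroup.eq_of_le_of_card_ge ((Subgroup.zpowers_le).2 s.2) (by rw [hH, Nat.card_zpowers, hs])
      have hK' : Subgroup.zpowers (s' : (T : Subgroup G)) = K :=
        Subgroup.eq_of_le_of_card_ge ((Subgroup.zpowers_le).2 s'.2) (by rw [hK, Nat.card_zpowers, hs'])
      rw [← hH', ← hK']
      rw [← Subgroup.orderOf_coe] at hs hs'
      congr 1
      exact Subtype.ext (hcon _ _ (s : (T : Subgroup G)).2 (s' : (T : Subgroup G)).2 hs hs')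
    rcases CfsgLib.Hall.Struct.cyclic_or_quaternion_of_unique 2 T.isPGroup' hu with hc | ⟨-, n, ⟨e⟩⟩
    · exact hncyc hc
    rcases n with _ | n
    · haveI : IsCyclic (QuaternionGroup (2 ^ 0)) := QuaternionGroup.quaternionGroup_one_isCyclic
      exact hncyc (isCyclic_of_surjective _ e.symm.surjective)
    have hZ := Cfsg.Agent.S0201.result T n e hodd
    refine hnn (isNilpotent_of_center hTI fun hb => ?_)
    rw [hb, Subgroup.card_bot] at hZ
    omega
  obtain ⟨M, hM⟩ : ∃ M, M = Subgroup.normalizer ((T : Subgroup G) : Set G) := ⟨_, rfl⟩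
  have hTM : (T : Subgroup G) ≤ M := hM ▸ Subgroup.le_normalizer
  have hTI2 : ∀ g : G, g ∈ M ↔ g • T = T := fun g => by
    rw [hM]; exact Sylow.smul_eq_iff_mem_normalizer.symm
  have tiT : ∀ g t : G, t ∈ T → t ≠ 1 → g * t * g⁻¹ ∈ T → g ∈ M := by
    intro g t ht ht1 hg
    by_contra hgM
    have hne : g • T ≠ T := fun e => hgM ((hTI2 g).2 e)
    have hmem : g * t * g⁻¹ ∈ ((g • T : Sylow 2 G) : Subgroup G) :=
      Subgroup.smul_mem_pointwise_smul t (MulAut.conj g) _ ht
    have := (Cfsg.Agent.S4066.result hTI (g • T) T hne).le ⟨hmem, hg⟩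
    rw [Subgroup.mem_bot] at this
    exact ht1 (by simpa using this)
  have hpM : ∀ s ∈ M, ∀ k, orderOf s = 2 ^ k → s ∈ T := by
    intro s hs k hk
    haveI : ((T : Subgroup G).subgroupOf M).Normal := by subst hM; exact Subgroup.normal_in_normalizer
    obtain ⟨Q, hQ⟩ := (IsPGroup.of_card (n := k) (by rw [Nat.card_zpowers, Subgroup.orderOf_mk, hk]) :
      IsPGroup 2 (Subgroup.zpowers (⟨s, hs⟩ : M))).exists_le_sylow
    haveI : ((T.subtype hTM : Sylow 2 M) : Subgroup M).Normal := by
      rw [Sylow.coe_subtype]; infer_instance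
    haveI := Sylow.unique_of_normal (T.subtype hTM) inferInstance
    have := hQ (Subgroup.mem_zpowers _)
    rw [Subsingleton.elim Q (T.subtype hTM)] at this
    exact this
  have hinvM : ∀ t, orderOf t = 2 → t ∈ M → t ∈ T := fun t ht htM => hpM t htM 1 (by rw [ht, pow_one])
  have ne1 : ∀ t : G, orderOf t = 2 → t ≠ 1 := fun t ht e => by rw [e, orderOf_one] at ht; omega
  have hMtop : M ≠ ⊤ := fun e => hTn (Subgroup.normalizer_eq_top_iff.1 (hM ▸ e))
  have hse : Cfsg.IsStronglyEmbedded M := by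
    refine stronglyEmbedded_of_forall hMtop ?_ fun t htM ht g hg => tiT g t (hinvM t ht htM) (ne1 t ht)
      (hinvM _ ((orderOf_conj g t).trans ht) hg)
    rw [even_iff_two_dvd, ← ht₁, ← Subgroup.orderOf_mk t₁ (hTM ht₁T)]
    exact orderOf_dvd_natCard _
  obtain ⟨u, hu, huM⟩ : ∃ u, orderOf u = 2 ∧ u ∉ M := by
    by_contra hcon
    push Not at hcon
    exact hMtop (eq_top_iff.2 fun g _ => tiT g t₁ ht₁T (ne1 _ ht₁)
      (hinvM _ ((orderOf_conj g t₁).trans ht₁) (hcon _ ((orderOf_conj g t₁).trans ht₁))))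
  -- the involutions are central in `T`
  haveI : Nontrivial (T : Subgroup G) := (Subgroup.nontrivial_iff_ne_bot _).2 hT1
  haveI := T.isPGroup'.center_nontrivial
  obtain ⟨c, hc⟩ : ∃ c : Subgroup.center (T : Subgroup G), orderOf c = 2 := by
    obtain ⟨k, hk⟩ := (T.isPGroup'.to_subgroup (Subgroup.center (T : Subgroup G))).exists_card_eq
    refine exists_prime_orderOf_dvd_card' 2 (hk ▸ dvd_pow_self 2 fun e => ?_)
    rw [e, pow_zero] at hk
    exact absurd hk Finite.one_lt_card.ne'
  obtain ⟨z, rfl⟩ : ∃ z, z = ((c : (T : Subgroup G)) : G) := ⟨_, rfl⟩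
  have hzT : ((c : (T : Subgroup G)) : G) ∈ T := (c : (T : Subgroup G)).2
  have hz : orderOf ((c : (T : Subgroup G)) : G) = 2 := by rw [Subgroup.orderOf_coe, Subgroup.orderOf_coe, hc]
  have hzc : ∀ s ∈ T, Commute s ((c : (T : Subgroup G)) : G) := fun s hs =>
    congrArg Subtype.val (Subgroup.mem_center_iff.1 c.2 ⟨s, hs⟩)
  generalize ((c : (T : Subgroup G)) : G) = z at hzT hz hzc
  have hTinv : ∀ t, orderOf t = 2 → t ∈ T → ∀ s ∈ T, Commute s t := by
    intro t ht htT s hs
    obtain ⟨⟨d, hd, rfl⟩, -⟩ := Cfsg.Agent.S1225.result M hse u hu huM z t hz (hTM hzT) ht (hTM htT)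
    have hd' : d⁻¹ * s * d ∈ T := by
      have h0 := (Subgroup.mem_normalizer_iff.1 (hM ▸ hd.1) (d⁻¹ * s * d)).2
      exact h0 (by
        rw [show d * (d⁻¹ * s * d) * d⁻¹ = s by group]
        exact hs)
    have := (hzc _ hd').map (MulAut.conj d).toMonoidHom
    simpa [mul_assoc] using this
  obtain ⟨A, hA⟩ : ∃ A, A = Subgroup.centralizer ({z} : Set G) := ⟨_, rfl⟩
  have hAnil : Group.IsNilpotent ↥A := hA ▸ hCN z (ne1 z hz)
  have hTA : (T : Subgroup G) ≤ A := fun s hs => by
    rw [hA]; exact Subgroup.mem_centralizer_singleton_iff.2 (hzc s hs).eq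
  have hAM : A ≤ M := fun a ha => by
    rw [hA, Subgroup.mem_centralizer_singleton_iff] at ha
    exact tiT a z hzT (ne1 z hz) (by rw [ha, mul_inv_cancel_right]; exact hzT)
  -- elements of `2`-power order in a nilpotent centraliser of an element of `A`
  have hAt : ∀ t, orderOf t = 2 → t ∈ T → ∀ a ∈ A, Commute a t := by
    intro t ht htT a ha
    haveI := hAnil
    have hT' : IsPGroup 2 ((T : Subgroup G).subgroupOf A) := T.isPGroup'.comap_subtype
    refine (Subgroup.mem_centralizer_singleton_iff.1 (CfsgLib.CN.le_centralizer_of_sylow hAnil (T.subtype hTA)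
      (w := ⟨t, hTA htT⟩) htT (fun b hb => Subtype.ext (hTinv t ht htT b hb).eq) ha))
  have hcent : ∀ a ∈ A, a ≠ 1 → Subgroup.centralizer ({a} : Set G) ≤ A := by
    intro a ha ha1
    have hC := hCN a ha1
    haveI := hC
    have hzC : z ∈ Subgroup.centralizer ({a} : Set G) :=
      Subgroup.mem_centralizer_singleton_iff.2 (hAt z hz hzT a ha).eq.symm
    rw [hA]
    refine CfsgLib.CN.le_of_sylow_le fun q hq Q y hy => Subgroup.mem_centralizer_singleton_iff.2 ?_
    haveI := Fact.mk hq
    obtain ⟨i, hi⟩ := IsPGroup.iff_orderOf.1 Q.isPGroup' ⟨y, hy⟩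
    rw [← Subgroup.orderOf_coe, ← Subgroup.orderOf_coe] at hi
    change orderOf (y : G) = q ^ i at hi
    by_cases hq2 : q = 2
    · subst hq2
      obtain ⟨Q', hQ'⟩ := ((Q.isPGroup').map (Subgroup.centralizer ({a} : Set G)).subtype).exists_le_sylow
      have hzQ : (⟨z, hzC⟩ : Subgroup.centralizer ({a} : Set G)) ∈ (Q : Subgroup _) := by
        obtain ⟨R, hR⟩ := (IsPGroup.of_card (n := 1) (by rw [Nat.card_zpowers, Subgroup.orderOf_mk, hz, pow_one]) :
          IsPGroup 2 (Subgroup.zpowers (⟨z, hzC⟩ : Subgroup.centralizer ({a} : Set G)))).exists_le_sylow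
        haveI := Sylow.unique_of_normal Q inferInstance
        have := hR (Subgroup.mem_zpowers _)
        rwa [Subsingleton.elim R Q] at this
      have hQT : Q' = T := by
        by_contra hne
        have := (Cfsg.Agent.S4066.result hTI Q' T hne).le ⟨hQ' ⟨_, hzQ, rfl⟩, hzT⟩
        exact ne1 z hz (Subgroup.mem_bot.1 this)
      exact (hzc _ (hQT ▸ hQ' ⟨y, hy, rfl⟩)).eq
    · exact (CfsgLib.CN.commute_of_mem hC y.2 hzC
        (CfsgLib.CN.coprime_of_pow hq Nat.prime_two hq2 hi (j := 1) (by rw [hz, pow_one]))).eq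
  have hCt : ∀ t, orderOf t = 2 → t ∈ T → Subgroup.centralizer ({t} : Set G) = A := fun t ht htT =>
    le_antisymm (hcent t (hTA htT) (ne1 t ht)) fun a ha =>
      Subgroup.mem_centralizer_singleton_iff.2 (hAt t ht htT a ha).eq
  have hMA : M = NA A := by
    apply le_antisymm
    · intro d hd
      refine Subgroup.mem_normalizer_iff.2 fun a => ?_
      have htT : d * z * d⁻¹ ∈ T := (Subgroup.mem_normalizer_iff.1 (hM ▸ hd) z).1 hzT
      constructor
      · intro ha
        rw [← hCt _ ((orderOf_conj d z).trans hz) htT, Subgroup.mem_centralizer_singleton_iff]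
        simpa [mul_assoc] using ((hAt z hz hzT a ha).map (MulAut.conj d).toMonoidHom).eq
      · intro ha
        rw [hA, Subgroup.mem_centralizer_singleton_iff]
        have h1 := (hAt _ ((orderOf_conj d z).trans hz) htT _ ha).map (MulAut.conj d⁻¹).toMonoidHom
        simpa [mul_assoc] using h1.eq
    · intro d hd
      have h1 := (Subgroup.mem_normalizer_iff.1 hd z).1 (hTA hzT)
      exact tiT d z hzT (ne1 z hz) (hinvM _ ((orderOf_conj d z).trans hz) (hAM h1))
  subst hMA
  refine ⟨T, A, z, ⟨hz, hTA hzT, hAnil, ?_, ?_, hcent, hse, fun t ht htM => ⟨hTA (hinvM t ht htM),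
    hAt t ht (hinvM t ht htM)⟩, ?_⟩, hTA, hncyc, hTn⟩
  · refine lt_of_le_of_ne Subgroup.le_normalizer fun e => ht12 ?_
    obtain ⟨⟨d, hd, hdt⟩, -⟩ := Cfsg.Agent.S1225.result _ hse u hu huM t₁ t₂ ht₁ (hTM ht₁T) ht₂ (hTM ht₂T)
    have hdA : d ∈ A := e.symm ▸ hd.1
    rwa [(hAt t₁ ht₁ ht₁T d hdA).eq, mul_inv_cancel_right] at hdt
  · intro g a ha ha1 hg
    have hne : g * a * g⁻¹ ≠ 1 := fun e => ha1 (by simpa using e)
    have h1 : g * z * g⁻¹ ∈ Subgroup.centralizer ({g * a * g⁻¹} : Set G) := by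
      rw [Subgroup.mem_centralizer_singleton_iff]
      simpa [mul_assoc] using ((hAt z hz hzT a ha).symm.map (MulAut.conj g).toMonoidHom).eq
    have h2 := hcent _ hg hne h1
    exact tiT g z hzT (ne1 z hz) (hinvM _ ((orderOf_conj g z).trans hz) (hAM h2))
  · intro a b d ha hb hd hab
    have hzb : z ∈ Subgroup.centralizer ({b} : Set G) :=
      Subgroup.mem_centralizer_singleton_iff.2 (hAt z hz hzT b hb).eq.symm
    have hzT' : d * z * d⁻¹ ∈ T := (Subgroup.mem_normalizer_iff.1 (hM ▸ hd) z).1 hzT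
    have hd' := hTI.mem_normalizer hzb (ne1 z hz) (g := d) (Subgroup.mem_centralizer_singleton_iff.2
      (hAt _ ((orderOf_conj d z).trans hz) hzT' b hb).eq.symm)
    exact Subgroup.mem_centralizer_singleton_iff.1
      ((Subgroup.mem_normalizer_iff.1 hd' a).1 (Subgroup.mem_centralizer_singleton_iff.2 hab.eq))

end CfsgLib.TICent
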